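import Cfsg.Agent.Lib.PSp43Real.Aut.Top
import Cfsg.Agent.Lib.PSp43Real.CaseTwo
import Cfsg.Agent.Lib.PSp43Real.CaseOne
import Cfsg.Agent.S0814

/-!
The sign kernel of the Weyl group satisfies the hypotheses with even signs, and the group is the full automorphism
group of `PSp(4,3)`.
-/

set_option autoImplicit false
set_option linter.style.haveILetI false
set_option synthInstance.maxSize 4000
set_option maxRecDepth 8000

namespace CfsgPSp43Real

open Subgroup Equiv Equiv.Perm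
open CfsgLib.Sym9Three (V3 xv Mon Sub tr rot act inR ev rt3)

theorem sl_gen : ∀ A : SL23, ∃ B₁ B₂ B₃ : SL23, B₁ * B₁ * B₁ = 1 ∧ B₂ * B₂ * B₂ = 1 ∧ B₃ * B₃ * B₃ = 1 ∧
    A = B₁ * B₂ * B₃ := by decide +kernel

theorem inR_count : ∀ k : Fin 4, 27 * Fintype.card {r : Fin 48 // inR k r = true} = 648 → k = 2 := by decide +kernel

universe u

variable {G : Type u} [Group G]

namespace Setup

variable (D : Setup G)

/-- A sign character is trivial on the centraliser. -/
theorem sign_C (f : G →* ℤˣ) {g : G} (hg : g ∈ D.C) : f g = 1 := by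
  have hcube : ∀ u : ℤˣ, u ^ 9 = 1 → u = 1 := fun u h => by
    rcases Int.units_eq_one_or u with rfl | rfl
    · rfl
    · exact absurd h (by decide)
  have h3 : ∀ x : ↥D.C, D.π x * D.π x * D.π x = 1 → f x = 1 := fun x hx => by
    refine hcube _ ?_
    rw [← map_pow, show ((x : G)) ^ 9 = (((x ^ 3) ^ 3 : ↥D.C) : G) by rw [← pow_mul]; rfl,
      D.kerExp _ (by rw [map_pow, pow_three', hx]), Subgroup.coe_one, map_one]
  obtain ⟨B₁, B₂, B₃, h1, h2, h3', e⟩ := sl_gen (D.π ⟨g, hg⟩)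
  obtain ⟨x₁, rfl⟩ := D.surj B₁
  obtain ⟨x₂, rfl⟩ := D.surj B₂
  obtain ⟨x₃, rfl⟩ := D.surj B₃
  obtain ⟨w, hw⟩ : ∃ w, w = (x₁ * x₂ * x₃)⁻¹ * ⟨g, hg⟩ := ⟨_, rfl⟩
  have hk : D.π w = 1 := by rw [hw, map_mul, map_inv, map_mul, map_mul, e, inv_mul_cancel]
  have he : (⟨g, hg⟩ : ↥D.C) = x₁ * x₂ * x₃ * w := by rw [hw, mul_inv_cancel_left]
  rw [show g = ((x₁ * x₂ * x₃ * w : ↥D.C) : G) from congrArg Subtype.val he, Subgroup.coe_mul, Subgroup.coe_mul,
    Subgroup.coe_mul, map_mul, map_mul, map_mul, h3 _ h1, h3 _ h2, h3 _ h3', h3 _ (by rw [hk, one_mul, one_mul]),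
    one_mul, one_mul, one_mul]

variable (G₀ : Subgroup G) (hC : D.C ≤ G₀)

/-- The element in a subgroup containing the centraliser. -/
def aIn : G₀ := ⟨D.a, hC (D.mem_C.2 rfl)⟩

theorem mem_cIn {g : G₀} : g ∈ Subgroup.centralizer ({D.aIn G₀ hC} : Set G₀) ↔ (g : G) ∈ D.C := by
  rw [Subgroup.mem_centralizer_singleton_iff, D.mem_C, Subtype.ext_iff]
  rfl

/-- The map between the centralisers. -/
def cIn : ↥(Subgroup.centralizer ({D.aIn G₀ hC} : Set G₀)) →* ↥D.C :=
  (G₀.subtype.comp (Subgroup.subtype _)).codRestrict D.C fun x => (D.mem_cIn G₀ hC).1 x.2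

theorem cIn_inj : Function.Injective (D.cIn G₀ hC) := fun x y h =>
  Subtype.ext (Subtype.ext (congrArg (fun z : ↥D.C => (z : G)) h))

theorem cIn_surj : Function.Surjective (D.cIn G₀ hC) := fun y =>
  ⟨⟨⟨y, hC y.2⟩, (D.mem_cIn G₀ hC).2 y.2⟩, rfl⟩

/-- The data in a subgroup containing the centraliser. -/
def restrict : Setup G₀ where
  a := D.aIn G₀ hC
  cube := Subtype.ext D.cube
  ne h := D.ne (congrArg Subtype.val h)
  π := D.π.comp (D.cIn G₀ hC)
  surj := D.surj.comp (D.cIn_surj G₀ hC)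
  kerCard := by
    rw [← D.kerCard, ← MonoidHom.comap_ker]
    exact (Subgroup.card_map_of_injective (D.cIn_inj G₀ hC)).symm.trans
      (by rw [Subgroup.map_comap_eq_self_of_surjective (D.cIn_surj G₀ hC)])
  kerExp x hx := D.cIn_inj G₀ hC (by rw [map_pow, D.kerExp _ hx, map_one])
  kerA := D.kerA
  kerCent x hx h := by
    have := D.kerCent _ hx fun y hy => by
      obtain ⟨y, rfl⟩ := D.cIn_surj G₀ hC y
      rw [← map_mul, h y hy, map_mul]
    obtain ⟨n, hn⟩ := Subgroup.mem_zpowers_iff.1 this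
    exact Subgroup.mem_zpowers_iff.2 ⟨n, Subtype.ext ((SubgroupClass.coe_zpow _ _).trans hn)⟩
  kerComm x y hx hy := by
    obtain ⟨n, hn⟩ := Subgroup.mem_zpowers_iff.1 (D.kerComm _ _ hx hy)
    exact Subgroup.mem_zpowers_iff.2 ⟨n, Subtype.ext ((SubgroupClass.coe_zpow _ _).trans hn)⟩
  J := D.J.subgroupOf G₀
  J_comm i hi j hj := Subtype.ext (D.J_comm _ hi _ hj)
  J_exp j hj := Subtype.ext (D.J_exp _ hj)
  J_card := (Nat.card_congr (Subgroup.subgroupOfEquivOfLe (D.J_le.trans hC)).toEquiv).trans D.J_card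
  J_le j hj := (D.mem_cIn G₀ hC).2 (D.J_le hj)
  sig K hK hn := by
    rw [← Subgroup.map_eq_bot_iff_of_injective _ G₀.subtype_injective]
    refine D.sig _ (by rwa [Subgroup.card_map_of_injective G₀.subtype_injective]) fun j hj => ?_
    conv_rhs => rw [← hn ⟨j, hC (D.J_le hj)⟩ hj]
    rw [Subgroup.map_map, Subgroup.map_map]
    rfl

end Setup

variable [Finite G]

namespace Frame

variable (F : Frame G)

omit [Finite G] in
/-- The order of the normalizer. -/
theorem card_N : Nat.card F.N = 27 * Fintype.card {r : Fin 48 // inR F.k r = true} := by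
  let f : V3 × {r : Fin 48 // inR F.k r = true} → F.N := fun p => ⟨F.el ⟨p.1, p.2.1⟩, (F.mem_N _).2 ⟨_, p.2.2, rfl⟩⟩
  have hf : Function.Bijective f := by
    refine ⟨fun p q h => ?_, fun g => ?_⟩
    · have := F.el_inj (⟨p.1, p.2.1⟩ : Mon) p.2.2 ⟨q.1, q.2.1⟩ q.2.2 (congrArg Subtype.val h)
      exact Prod.ext (congrArg (fun m : Mon => m.v) this) (Subtype.ext (congrArg (fun m : Mon => m.g) this))
    · obtain ⟨m, hm, e⟩ := (F.mem_N _).1 g.2
      exact ⟨(m.v, ⟨m.g, hm⟩), Subtype.ext e⟩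
  rw [← Nat.card_eq_of_bijective f hf, Nat.card_prod, Nat.card_eq_fintype_card, Nat.card_eq_fintype_card]
  rfl

end Frame

namespace Frame3

variable {F : Frame3 G} (hgood : F.Good ev)

include hgood

/-- A normal subgroup above the normalizer is everything. -/
theorem SixD.normal_eq_top (D : F.SixD) {M : Subgroup G} [hM : M.Normal] (hN : F.N ≤ M) : M = ⊤ := by
  have hx : F.φ rt3 ∈ M := hN (F.φ_mem _)
  have hcls : ∀ g, F.Cls 24 g → g ∈ M := fun g ⟨h, e⟩ => e ▸ hM.conj_mem _ hx h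
  have hall : ∀ y : Perm (Fin 6), D.Φ y ∈ M := fun y => by
    induction y using Equiv.Perm.swap_induction_on with
    | one => rw [map_one]; exact one_mem _
    | swap_mul f i j hij hf =>
      obtain ⟨k, hk⟩ := isConj_iff.1 (Equiv.Perm.isConj_swap (show (0 : Fin 6) ≠ 1 by decide) hij)
      rw [map_mul, ← hk]
      exact mul_mem (hcls _ (D.cls_transp k)) hf
  refine D.eq_top hgood hN fun g hg => ?_
  obtain ⟨y, e | e⟩ := D.split g hg
  · rw [e]; exact hall y
  · rw [e]; exact mul_mem (hall y) hx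

/-- The good case. -/
theorem case_good : Nonempty (G ≃* MulAut (Cfsg.PSp 2 CfsgLib.Heis43.K3)) := by
  classical
  obtain ⟨D⟩ := F.exists_sixD hgood
  obtain ⟨eG⟩ := D.exists_iso hgood
  have hE := Cfsg.Agent.S1093.result (⟨6, CoxeterMatrix.E₆⟩, 51840) (by simp)
  change Nat.card CoxeterMatrix.E₆.Group = 51840 at hE
  have hG : Nat.card G = 51840 := (Nat.card_congr eG.toEquiv).symm.trans hE
  let cs := CoxeterMatrix.E₆.toCoxeterSystem
  have hl : CoxeterMatrix.E₆.IsLiftable (fun _ => (-1 : ℤˣ)) := fun i j => by simp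
  let sgn : G →* ℤˣ := (cs.lift ⟨_, hl⟩).comp eG.symm.toMonoidHom
  have hnt : sgn (eG (cs.simple 0)) = -1 := by
    show cs.lift ⟨_, hl⟩ (eG.symm (eG (cs.simple 0))) = -1
    rw [MulEquiv.symm_apply_apply]
    exact cs.lift_apply_simple hl 0
  have hsurj : Function.Surjective sgn := fun u => by
    rcases Int.units_eq_one_or u with rfl | rfl
    exacts [⟨1, map_one _⟩, ⟨_, hnt⟩]
  have hu2 : Nat.card ℤˣ = 2 := by rw [Nat.card_eq_fintype_card, Fintype.card_units_int]
  obtain ⟨G₀, hG₀⟩ : ∃ G₀, G₀ = sgn.ker := ⟨_, rfl⟩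
  haveI : G₀.Normal := hG₀ ▸ MonoidHom.normal_ker _
  have hidx : G₀.index = 2 := by
    rw [hG₀, Subgroup.index_ker, MonoidHom.range_eq_top.2 hsurj, Subgroup.card_top, hu2]
  have h0 : Nat.card G₀ = 25920 := by
    have := G₀.card_mul_index
    rw [hidx, hG] at this
    omega
  have hC : F.D.C ≤ G₀ := fun g hg => hG₀ ▸ MonoidHom.mem_ker.2 (F.D.sign_C sgn hg)
  -- the signs of the normalizer
  have hNsurj : Function.Surjective (sgn.comp F.N.subtype) := fun u => by
    rcases Int.units_eq_one_or u with rfl | rfl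
    · exact ⟨1, map_one _⟩
    · by_contra h
      have hle : F.N ≤ G₀ := fun g hg => hG₀ ▸ MonoidHom.mem_ker.2
        ((Int.units_eq_one_or _).resolve_right fun e => h ⟨⟨g, hg⟩, e⟩)
      rw [D.normal_eq_top hgood hle, Subgroup.index_top] at hidx
      exact absurd hidx (by norm_num)
  obtain ⟨F', hF'⟩ := (F.D.restrict G₀ hC).exists_frame
  have hk : F'.k = 2 := by
    refine inR_count _ ?_
    rw [← F'.card_N]
    have hN : Nat.card F.N = 1296 := by rw [F.toFrame.card_N, F.k3]; rfl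
    have h1 := ((sgn.comp F.N.subtype).ker).card_mul_index
    rw [Subgroup.index_ker, MonoidHom.range_eq_top.2 hNsurj, Subgroup.card_top, hu2, hN] at h1
    suffices h : Nat.card F'.N = Nat.card (sgn.comp F.N.subtype).ker by omega
    have hmem : ∀ g : G₀, g ∈ F'.N ↔ (g : G) ∈ F.N := fun g => by
      show g ∈ Subgroup.normalizer (F'.D.J : Set G₀) ↔ _
      rw [hF', Subgroup.mem_normalizer_iff, Subgroup.mem_normalizer_iff]
      constructor
      · intro h y
        constructor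
        · intro hy; exact (h ⟨y, hC (F.D.J_le hy)⟩).1 hy
        · intro hy
          exact (h ⟨y, by
            have := mul_mem (mul_mem (inv_mem g.2) (hC (F.D.J_le hy))) g.2
            rwa [show (g : G)⁻¹ * ((g : G) * y * (g : G)⁻¹) * g = y by group] at this⟩).2 hy
      · exact fun h y => h y
    refine Nat.card_congr
      { toFun := fun g => ⟨⟨((g : G₀) : G), (hmem _).1 g.2⟩, MonoidHom.mem_ker.2
          (MonoidHom.mem_ker.1 (hG₀ ▸ (g : G₀).2 : ((g : G₀) : G) ∈ sgn.ker))⟩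
        invFun := fun g => ⟨⟨((g : F.N) : G), hG₀ ▸ MonoidHom.mem_ker.2 (MonoidHom.mem_ker.1 g.2)⟩, (hmem _).2 (g : F.N).2⟩
        left_inv := fun _ => rfl
        right_inv := fun _ => rfl }
  obtain ⟨e⟩ := F'.case_two hk
  let Ψ : G →* MulAut G₀ := MulAut.conjNormal
  have hinj : Function.Injective Ψ := by
    rw [injective_iff_map_eq_one]
    intro z hz
    have hc : ∀ y ∈ G₀, z * y = y * z := fun y hy => by
      have := congrArg (fun f : MulAut G₀ => ((f ⟨y, hy⟩ : G₀) : G)) hz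
      exact mul_inv_eq_iff_eq_mul.1 this
    have hzJ := F.D.cent_J fun j hj => hc j (hC (F.D.J_le hj))
    have hzZ := F.D.center_S (F.D.J_le_S hzJ) fun y hy => hc y (hC (F.D.S_le hy))
    have hbad : ¬ ∀ y ∈ G₀, F.D.a * y = y * F.D.a := fun h => by
      have hle : G₀ ≤ F.D.C := fun y hy => F.D.mem_C.2 (h y hy).symm
      have := Nat.le_of_dvd (by norm_num) ((Subgroup.card_dvd_of_le hle).trans F.toFrame.card_C_dvd)
      omega
    rcases F.D.Z_cases hzZ with rfl | rfl | rfl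
    · rfl
    · exact absurd hc hbad
    · exact absurd (fun y hy => by
        have h : Commute F.D.a⁻¹ y := hc y hy
        exact (Commute.inv_left_iff.1 h).eq) hbad
  have hAut : Nat.card (MulAut G₀) = Nat.card G := by
    rw [Nat.card_congr (MulAut.congr e).toEquiv,
      Cfsg.Agent.S0814.result 3 1 le_rfl (ZMod.card 3) 2 le_rfl (fun _ => by norm_num),
      ← Nat.card_congr e.toEquiv, h0, hG]
    norm_num
  haveI : Finite (MulAut G₀) := Nat.finite_of_card_ne_zero (by rw [hAut, hG]; norm_num)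
  exact ⟨(MulEquiv.ofBijective Ψ ((Nat.bijective_iff_injective_and_card Ψ).2 ⟨hinj, hAut.symm⟩)).trans
    (MulAut.congr e)⟩

end Frame3

end CfsgPSp43Real
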