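import Cfsg.Agent.Lib.PSp43Real.Aut.Refl
import Cfsg.Agent.S1093

/-!
The group is the Weyl group of type E6 when the translations have small centralisers.
-/

set_option autoImplicit false
set_option linter.style.haveILetI false
set_option synthInstance.maxSize 4000
set_option maxRecDepth 8000

namespace CfsgPSp43Real

open Subgroup Equiv Equiv.Perm
open CfsgLib.Sym9Three (V3 xv Mon Sub tr rot act eType ev rt3 mon_split)

theorem mon_gens : (∀ v : V3, ∃ a b c : Fin 3, v = a.val • u0 + b.val • u1 + c.val • ev) ∧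
    (∀ r : Fin 48, ∃ a b c x y z : Fin 2, rot r = rot 6 ^ a.val * rot 12 ^ b.val * rot 24 ^ c.val *
      (rot 1 ^ x.val * rot 2 ^ y.val * rot 1 ^ z.val)) ∧
    rot 6 * (rot 6 * tr u0) = tr u0 ∧ rot 12 * (rot 12 * tr u1) = tr u1 ∧ rot 24 * (rot 24 * tr ev) = tr ev ∧
    rot 3 * (rot 12 * tr u1) = rot 12 * tr u1 * rot 3 ∧ rot 1 * rot 2 * rot 1 = rot 3 ∧
    rot 2 * rot 6 = rot 6 * rot 2 ∧ rot 2 * (rot 6 * tr u0) = rot 6 * tr u0 * rot 2 ∧
    rot 3 * rot 1 * rot 3 = rot 2 := by decide +kernel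

theorem six_fix_facts :
    (∀ y : Perm (Fin 6), y * swap 3 4 = swap 3 4 * y → ∃ σ : Perm (Fin 6), σ 3 = 3 ∧ σ 4 = 4 ∧
      (y = σ ∨ y = σ * swap 3 4)) ∧
    (∀ σ : Perm (Fin 6), σ 3 = 3 → σ 4 = 4 → ∃ A ∈ ([1, swap 2 5, swap 1 2 * swap 2 5 * swap 1 2,
        swap 0 1 * swap 1 2 * swap 0 1 * swap 2 5 * (swap 0 1 * swap 1 2 * swap 0 1)] : List (Perm (Fin 6))),
      ∃ B ∈ ([1, swap 1 2, swap 0 1 * swap 1 2 * swap 0 1] : List (Perm (Fin 6))),
      ∃ C ∈ ([1, swap 0 1] : List (Perm (Fin 6))), σ = A * B * C) ∧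
    (∀ σ : Perm (Fin 6), σ 3 = 3 → σ 4 = 4 → σ * σ = 1 → σ = 1 ∨ ∃ k : Perm (Fin 6), k 3 = 3 ∧ k 4 = 4 ∧
      (k * σ * k⁻¹ = swap 0 1 ∨ k * σ * k⁻¹ = swap 0 1 * swap 2 5)) ∧
    (∀ k : Perm (Fin 6), k * swap 0 1 * k⁻¹ * cB = cB * (k * swap 0 1 * k⁻¹) →
      k * swap 0 1 * k⁻¹ * swap 3 4 = swap 3 4 * (k * swap 0 1 * k⁻¹) →
      k * swap 0 1 * k⁻¹ * swap 2 5 = swap 2 5 * (k * swap 0 1 * k⁻¹) → k * swap 0 1 * k⁻¹ = swap 0 1) ∧
    (∀ y : Perm (Fin 6), y * (swap 0 1 * swap 3 4) = swap 0 1 * swap 3 4 * y →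
      y * y * (y * y) * (y * y * (y * y)) = 1) := by decide +kernel

theorem six_misc : swap (2 : Fin 6) 5 * (swap 3 4 * swap 4 5 * swap 3 4) * swap 2 5 = swap 2 3 ∧
    cW * swap 2 5 = swap 0 3 * swap 1 4 ∧ cW * swap 2 5 = swap 2 5 * cW ∧ cW * swap 0 3 = swap 0 3 * cW ∧
    (∀ k : Perm (Fin 6), k * swap 0 1 * k⁻¹ ≠ swap 0 3 * swap 1 4 ∧ k * swap 0 1 * k⁻¹ ≠ 1) ∧
    (∃ k : Perm (Fin 6), k * swap 0 1 * k⁻¹ = swap 0 3) ∧ swap (2 : Fin 6) 5 * cA ≠ cA * swap 2 5 ∧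
    (cW * (swap 3 4 * cW * (swap 3 4)⁻¹)) *
      ((cB * cB * cW * (cB * cB)⁻¹) * (swap 3 5 * cW * (swap 3 5)⁻¹)) = cA ∧
    Equiv.Perm.sign cW = -1 ∧ cW * cW = 1 := by decide +kernel

theorem s_facts : rot 36 = rot 12 * rot 24 ∧ rot 2 * rot 24 = rot 12 * rot 2 ∧ rot 2 * rot 12 = rot 24 * rot 2 ∧
    rot 2 * rot 2 = 1 ∧ rot 24 * (rot 2 * rot 36) = rot 2 * rot 24 ∧ rot 3 * rot 2 = rot 1 * rot 3 ∧
    (∃ n : Fin 48, rot n * (rot 2 * rot 6) = rot 25 * rot n) ∧ (∃ n : Fin 48, rot n * rot 2 = rot 1 * rot n) ∧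
    rot 3 * rot 36 = rot 18 * rot 3 ∧ rot 18 * rot 18 = 1 ∧
    (∃ n : Fin 48, rot n * rot 36 = rot 30 * rot n) ∧ (∃ n : Fin 48, rot n * rot 30 = rot 18 * rot n) ∧
    rot 6 * rot 36 = rot 36 * rot 6 ∧ rot 6 * tr u0 * rot 36 = rot 36 * (rot 6 * tr u0) ∧
    (rot 2 * rot 12) * (rot 2 * rot 12) = rot 36 ∧ (rot 2 * rot 24) * (rot 2 * rot 24) = rot 36 := by decide +kernel

/-- The translations of the monomial reflections. -/
def mref (p : Fin 3 × ZMod 3) : Mon :=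
  tr (if p.1 = 0 then (p.2, 0, 0) else if p.1 = 1 then (0, p.2, 0) else (0, 0, p.2)) *
    rot (if p.1 = 0 then 6 else if p.1 = 1 then 12 else 24)

theorem ref_count : (∀ p q, mref p = mref q → p = q) ∧ (∀ p, ∃ n : Mon, n * rot 24 = mref p * n) ∧
    (∀ v : V3, v ≠ 0 → ∃ r ∈ ([0, 1, 3] : List (Fin 48)), ∃ s ∈ ([6, 12, 24] : List (Fin 48)),
      act r (v - act s v) = u0 ∨ act r (v - act s v) = -u0) ∧
    (∀ m : Mon, m * rot 6 = rot 6 * m → m * rot 12 = rot 12 * m → m * rot 24 = rot 24 * m → m * m = 1 → m ≠ 1 →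
      ∃ r ∈ ([6, 12, 24, 18, 30, 36, 42] : List (Fin 48)), m = rot r) := by decide +kernel

universe u

variable {G : Type u} [Group G] [Finite G]

namespace Frame3

variable {F : Frame3 G} (hgood : F.Good ev) (D : F.SixD)

omit [Finite G] in
theorem cent_conj {M : Subgroup G} {x h : G} (hh : h ∈ M) (hx : ∀ g, Commute g x → g ∈ M) :
    ∀ g, Commute g (h * x * h⁻¹) → g ∈ M := by
  intro g hg
  have h1 : h⁻¹ * g * h ∈ M := hx _ (by
    have := hg.conj h⁻¹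
    rwa [inv_inv, show h⁻¹ * (h * x * h⁻¹) * h = x by group] at this)
  have := mul_mem (mul_mem hh h1) (inv_mem hh)
  rwa [show h * (h⁻¹ * g * h) * h⁻¹ = g by group] at this

omit [Finite G] in
theorem SixD.cent_le {K : Subgroup G} (h0 : F.φ (rot 6) ∈ K) (hq0 : F.φ (rot 6 * tr u0) ∈ K)
    (h1 : F.φ (rot 12) ∈ K) (hq1 : F.φ (rot 12 * tr u1) ∈ K) (hw : D.wl ∈ K) (h2 : F.φ rt3 ∈ K) :
    ∀ g, Commute g (F.φ rt3) → g ∈ K := by
  have k01 : D.Φ (swap 0 1) ∈ K := D.p0 ▸ h0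
  have k12 : D.Φ (swap 1 2) ∈ K := by
    rw [← six_middle_conj.1, map_mul, D.p0, D.a0, ← F.φ_tr, ← map_mul]; exact hq0
  have k34 : D.Φ (swap 3 4) ∈ K := D.p1 ▸ h1
  have k45 : D.Φ (swap 4 5) ∈ K := by
    rw [← six_middle_conj.2, map_mul, D.p1, D.a1, ← F.φ_tr, ← map_mul]; exact hq1
  have k23 : D.Φ (swap 2 3) ∈ K := by
    rw [← six_misc.1]
    simp only [map_mul]
    exact mul_mem (mul_mem hw (mul_mem (mul_mem k34 k45) k34)) hw
  have hall : K.comap D.Φ = ⊤ := CfsgLib.Sym9Three.six_closure _ k01 k12 k23 k34 k45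
  intro g hg
  obtain ⟨y, hy⟩ := D.split g hg
  have hm : D.Φ y ∈ K := (hall ▸ Subgroup.mem_top y : y ∈ K.comap D.Φ)
  rcases hy with rfl | rfl
  · exact hm
  · exact mul_mem hm h2

omit [Finite G] in
theorem SixD.wl_t : Commute D.wl (F.φ (rot 1)) := by
  have h : Commute (swap (2 : Fin 6) 5) cW := six_misc.2.2.1.symm
  rcases D.w with e | e
  · rw [← e]; exact h.map D.Φ
  · have e' : F.φ (rot 1) = D.Φ cW * F.φ rt3 := by
      rw [e, ← map_mul]; congr 1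
    rw [e']
    exact (h.map D.Φ).mul_right (D.comm _)

include hgood

omit [Finite G] in
theorem good_e {v : V3} (hv : eType v) : F.Good v := by
  obtain ⟨r, rfl⟩ := (three_types.2.2.1 v hv).1
  exact F.good_act (by rw [F.k3]; rfl) hgood

theorem SixD.wl_three : Commute (F.φ (rot 3)) D.wl := mul_inv_eq_iff_eq_mul.1 (D.wl_perm hgood)

theorem SixD.phi_two_comm {σ : Perm (Fin 6)} (h3 : σ 3 = 3) (h4 : σ 4 = 4) : Commute (F.φ (rot 2)) (D.Φ σ) := by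
  obtain ⟨-, -, -, -, -, -, -, h26, h2q, h313⟩ := mon_gens
  let K : Subgroup (Perm (Fin 6)) :=
    (Subgroup.centralizer ({F.φ (rot 2)} : Set G)).comap D.Φ
  have hK : ∀ y, y ∈ K ↔ Commute (F.φ (rot 2)) (D.Φ y) := fun y => by
    rw [Subgroup.mem_comap, Subgroup.mem_centralizer_singleton_iff]; exact eq_comm
  have k01 : swap 0 1 ∈ K := (hK _).2 (by rw [D.p0]; exact F.φ_comm.2 h26)
  have k12 : swap 1 2 ∈ K := (hK _).2 (by
    rw [← six_middle_conj.1, map_mul, D.p0, D.a0, ← F.φ_tr, ← map_mul]; exact F.φ_comm.2 h2q)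
  have k25 : swap 2 5 ∈ K := (hK _).2 (by
    show Commute (F.φ (rot 2)) D.wl
    rw [← h313, map_mul, map_mul]
    exact ((D.wl_three hgood).mul_left D.wl_t.symm).mul_left (D.wl_three hgood))
  obtain ⟨A, hA, B, hB, C, hC, rfl⟩ := six_fix_facts.2.1 σ h3 h4
  simp only [List.mem_cons, List.not_mem_nil, or_false] at hA hB hC
  have k02 := mul_mem (mul_mem k01 k12) k01
  refine (hK _).1 (mul_mem (mul_mem ?_ ?_) ?_)
  · rcases hA with rfl | rfl | rfl | rfl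
    exacts [one_mem _, k25, mul_mem (mul_mem k12 k25) k12, mul_mem (mul_mem k02 k25) k02]
  · rcases hB with rfl | rfl | rfl
    exacts [one_mem _, k12, k02]
  · rcases hC with rfl | rfl
    exacts [one_mem _, k01]

include D in
/-- The image of the Weyl group contains the normalizer and the centralisers of the three sign changes. -/
theorem SixD.exists_big : ∃ ρ : CoxeterMatrix.E₆.Group →* G, F.N ≤ ρ.range ∧
    ∀ g, Commute g (F.φ rt3) → g ∈ ρ.range := by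
  obtain ⟨ρ, hρ3, hρ⟩ := D.exists_hom hgood
  refine ⟨ρ, ?_⟩
  obtain ⟨M, hM⟩ : ∃ M, M = ρ.range := ⟨_, rfl⟩
  rw [← hM]
  have hs : ∀ i, i ≠ 3 → F.φ (genE6 i) ∈ M := fun i hi => hM ▸ ⟨_, hρ i hi⟩
  have m6 : F.φ (rot 6) ∈ M := hs 0 (by decide)
  have mq2 : F.φ (rot 24 * tr ev) ∈ M := hs 1 (by decide)
  have mq0 : F.φ (rot 6 * tr u0) ∈ M := hs 2 (by decide)
  have mq1 : F.φ (rot 12 * tr u1) ∈ M := hs 4 (by decide)
  have m12 : F.φ (rot 12) ∈ M := hs 5 (by decide)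
  have mw : D.wl ∈ M := hM ▸ ⟨_, hρ3⟩
  obtain ⟨hv, hr, he0, he1, he2, hn1, h121, h26, h2q, h313⟩ := mon_gens
  -- the reflection of the highest root
  have hhigh : ρ highE6 = F.φ rt3 := by
    let cs := CoxeterMatrix.E₆.toCoxeterSystem
    obtain ⟨g, hg⟩ : ∃ g, g = ρ highE6 := ⟨_, rfl⟩
    have hcomm : ∀ i ∈ ([0, 2, 3, 4, 5] : List (Fin 6)), Commute (ρ (CoxeterMatrix.E₆.simple i)) g := fun i hi =>
      hg ▸ (high_comm i hi).map ρ
    have c0 : Commute (F.φ (rot 6)) g := by have h := hcomm 0 (by simp); rwa [hρ 0 (by decide)] at h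
    have cq0 : Commute (F.φ (rot 6 * tr u0)) g := by have h := hcomm 2 (by simp); rwa [hρ 2 (by decide)] at h
    have cw : Commute D.wl g := by have h := hcomm 3 (by simp); rwa [hρ3] at h
    have cq1 : Commute (F.φ (rot 12 * tr u1)) g := by have h := hcomm 4 (by simp); rwa [hρ 4 (by decide)] at h
    have c1 : Commute (F.φ (rot 12)) g := by have h := hcomm 5 (by simp); rwa [hρ 5 (by decide)] at h
    have hcls : F.Cls 24 g := by
      have hw : highE6 = cs.wordProd ([1, 3, 4, 5, 2, 3, 4, 0, 2, 3] : List (Fin 6)) * cs.simple 1 *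
          (cs.wordProd ([1, 3, 4, 5, 2, 3, 4, 0, 2, 3] : List (Fin 6)))⁻¹ := by
        rw [← cs.wordProd_reverse, ← cs.wordProd_singleton 1, ← cs.wordProd_append, ← cs.wordProd_append]
        rfl
      rw [hg, hw, map_mul, map_mul, map_inv, CoxeterMatrix.toCoxeterSystem_simple, hρ 1 (by decide)]
      refine F.cls_conj ?_ _
      show F.Cls 24 (F.φ (rot 24 * tr ev))
      obtain ⟨k, hk⟩ : ∃ k : Perm (Fin 6), k * swap 0 1 * k⁻¹ = swap 1 2 := by decide +kernel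
      rw [← F.φ_conj_eq refl_mon.2.2.2.1, map_mul F.φ (rot 6), F.φ_tr, ← D.a0, ← D.p0, ← map_mul, six_middle_conj.1, ← hk]
      exact F.cls_conj (D.cls_transp k) _
    -- move to the last block
    obtain ⟨e24, e6, e12, -⟩ := refl_mon
    obtain ⟨n, hn⟩ : ∃ n, n = F.φ (rot 3) := ⟨_, rfl⟩
    obtain ⟨g', hg'⟩ : ∃ g', g' = n * g * n⁻¹ := ⟨_, rfl⟩
    have k2 : Commute g' (F.φ rt3) := by
      rw [hg', show rt3 = rot 24 from rfl, ← F.φ_conj_eq e6, ← hn]; exact c0.symm.conj n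
    have k1 : Commute g' (F.φ (rot 12)) := by
      rw [hg', ← F.φ_conj_eq e12, ← hn]; exact c1.symm.conj n
    have kq1 : Commute g' (F.φ (rot 12 * tr u1)) := by
      rw [hg', ← F.φ_conj_eq hn1, ← hn]; exact cq1.symm.conj n
    have kw : Commute g' D.wl := by
      rw [hg', ← D.wl_perm hgood, ← hn]; exact cw.symm.conj n
    rcases D.d_type hgood k2 (hg' ▸ F.cls_conj hcls n) with e | ⟨k, e⟩
    · exfalso
      have e' : g = F.φ (rot 6) := by
        have h := hg'.symm.trans e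
        rw [show rt3 = rot 24 from rfl, ← F.φ_conj_eq e6, hn] at h
        exact mul_left_cancel (mul_right_cancel h)
      rw [e'] at cq0
      exact absurd (F.φ_comm.1 cq0) (by decide +kernel)
    · rw [e, ← D.p1] at k1
      have k1b : Commute (D.Φ (k * swap 0 1 * k⁻¹)) (D.Φ cB) := by
        rw [D.a1, ← F.φ_tr, ← he1, map_mul F.φ (rot 12)]
        rw [D.p1] at k1
        exact k1.mul_right (e ▸ kq1)
      rw [e] at kw
      have := six_fix_facts.2.2.2.1 k (D.inj (by rw [map_mul D.Φ _ cB, map_mul D.Φ cB]; exact k1b.eq))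
        (D.inj (by rw [map_mul D.Φ _ (swap 3 4), map_mul D.Φ (swap 3 4)]; exact k1.eq))
        (D.inj (by rw [map_mul D.Φ _ (swap 2 5), map_mul D.Φ (swap 2 5)]; exact kw.eq))
      rw [this, D.p0, hg', hn, ← F.φ_conj_eq e24] at e
      rw [← hg]
      exact mul_left_cancel (mul_right_cancel e)
  have m24 : F.φ rt3 ∈ M := hM ▸ ⟨_, hhigh⟩
  have hCd : ∀ g, Commute g (F.φ rt3) → g ∈ M := D.cent_le m6 mq0 m12 mq1 mw m24
  have hconj : ∀ g, Commute g (F.φ rt3) → g ∈ M.comap (MulAut.conj (F.φ (rot 3))).toMonoidHom := by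
    obtain ⟨e24, e6, e12, eq0, -⟩ := refl_mon
    refine D.cent_le ?_ ?_ ?_ ?_ ?_ ?_ <;> rw [Subgroup.mem_comap] <;> show F.φ (rot 3) * _ * (F.φ (rot 3))⁻¹ ∈ M
    · rw [F.φ_conj_eq e6]; exact m24
    · rw [F.φ_conj_eq eq0]; exact mq2
    · rw [F.φ_conj_eq e12]; exact m12
    · rw [F.φ_conj_eq hn1]; exact mq1
    · rw [D.wl_perm hgood]; exact mw
    · rw [show rt3 = rot 24 from rfl, F.φ_conj_eq e24]; exact m6
  have m1 : F.φ (rot 1) ∈ M := hCd _ (F.φ_comm.2 (by decide +kernel))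
  have m2 : F.φ (rot 2) ∈ M := by
    rw [← F.φ_conj_eq (show rot 3 * rot 1 = rot 2 * rot 3 by decide +kernel)]
    exact hconj (F.φ (rot 1)) (F.φ_comm.2 (by decide +kernel))
  refine ⟨fun g hg => ?_, hCd⟩
  obtain ⟨m, rfl⟩ := F.mem_N3.1 hg
  rw [mon_split m, map_mul]
  refine mul_mem ?_ ?_
  · obtain ⟨a, b, c, e⟩ := hv m.v
    rw [e, F.φ_tr, F.j_add, F.j_add, F.j_smul, F.j_smul, F.j_smul, ← F.φ_tr, ← F.φ_tr, ← F.φ_tr, ← he0, ← he1, ← he2,
      map_mul, map_mul F.φ (rot 12) (rot 12 * tr u1), map_mul F.φ (rot 24) (rot 24 * tr ev)]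
    exact mul_mem (mul_mem (pow_mem (mul_mem m6 mq0) _) (pow_mem (mul_mem m12 mq1) _)) (pow_mem (mul_mem m24 mq2) _)
  · obtain ⟨a, b, c, x, y, z, e⟩ := hr m.g
    rw [e]
    simp only [map_mul, map_pow]
    exact mul_mem (mul_mem (mul_mem (pow_mem m6 _) (pow_mem m12 _)) (pow_mem m24 _))
      (mul_mem (mul_mem (pow_mem m1 _) (pow_mem m2 _)) (pow_mem m1 _))

end Frame3

end CfsgPSp43Real
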