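import Cfsg.Agent.Lib.PSp43Real.Dich
import Cfsg.Agent.Lib.PSp43Real.Closure
import Cfsg.Agent.S2530

/-!
The centraliser of the sign change of one block when the translations have small centralisers: modulo that
involution it is the symmetric group of degree six.
-/

set_option autoImplicit false
set_option linter.style.haveILetI false
set_option synthInstance.maxSize 4000
set_option maxRecDepth 8000

namespace CfsgPSp43Real

open Subgroup Equiv Equiv.Perm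
open CfsgLib.Sym9Three (V3 xv Mon Sub tr rot act rMul inR eType ev rt3 dihRot dihRot_facts le_normalizer_or_six
  tr_mem_Sub tr_mul rot_mul)

/-- The translations of two blocks and the sign change of the third. -/
def inAD (m : Mon) : Bool := m.v.2.2 == 0 && (m.g == 0 || m.g == 24)

theorem inAD_facts : (∀ v w : V3, ∀ r ∈ ([0, 24] : List (Fin 48)), ∀ r' ∈ ([0, 24] : List (Fin 48)), v.2.2 = 0 →
      w.2.2 = 0 → inAD (⟨v, r⟩ * ⟨w, r'⟩) = true ∧ (⟨v, r⟩ : Mon) * ⟨w, r'⟩ = ⟨w, r'⟩ * ⟨v, r⟩) ∧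
    (∀ m : Mon, inAD m = true → inAD m⁻¹ = true ∧ m * rt3 = rt3 * m ∧ (m * m * m = 1 ∨ m * m * m = rt3) ∧
      m.v.2.2 = 0 ∧ (m.g = 0 ∨ m.g = 24) ∧ (m * m * m = 1 → m.g = 0) ∧ (m = tr m.v ∨ m = tr m.v * rt3)) ∧
    (Finset.univ.filter fun m : Mon => inAD m = true).card = 18 ∧ inAD 1 = true ∧ inAD rt3 = true ∧
    (Finset.univ.filter fun m : Mon => m * rt3 = rt3 * m).card = 144 := by decide +kernel

theorem centD_mon : (∀ m : Mon, m * rt3 = rt3 * m → (∀ v : V3, v.2.2 = 0 → (act m.g v).2.2 = 0) ∧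
      (act m.g u0 = u0 → act m.g u1 = u1 → inAD m = true)) ∧
    (∀ x : DihedralGroup 4, rot (dihRot 7 1 x) * rt3 = rt3 * rot (dihRot 7 1 x) ∧ dihRot 7 1 x ≠ 24) ∧
    two ((1, 1, 0) : V3) ∧
    (∀ v : V3, v.2.2 = 0 → v ≠ 0 → tr v * rt3 = rt3 * tr v) ∧
    (∀ m : Mon, m * rt3 = rt3 * m → (m * rot 6 * m⁻¹).v = 0 → (m * rot 1 * m⁻¹).v = 0 →
      m.v = 0 ∧ m.g.val % 6 ≤ 1) := by decide +kernel

/-- The rotations centralising the sign change of the last block. -/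
def TD : Subgroup Mon where
  carrier := {m | m.v = 0 ∧ m.g.val % 6 ≤ 1}
  mul_mem' {a b} ha hb := ⟨by show a.v + act a.g b.v = 0; rw [ha.1, hb.1, CfsgLib.Sym9Three.act_zero, add_zero],
    (by decide +kernel : ∀ r s : Fin 48, r.val % 6 ≤ 1 → s.val % 6 ≤ 1 → (rMul r s).val % 6 ≤ 1) _ _ ha.2 hb.2⟩
  one_mem' := ⟨rfl, Nat.zero_le _⟩
  inv_mem' {a} ha := ⟨by
      show -act (CfsgLib.Sym9Three.rInv a.g) a.v = 0
      rw [ha.1, CfsgLib.Sym9Three.act_zero, neg_zero],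
    (by decide +kernel : ∀ r : Fin 48, r.val % 6 ≤ 1 → (CfsgLib.Sym9Three.rInv r).val % 6 ≤ 1) _ ha.2⟩

theorem TD_facts : (∀ r : Fin 48, r.val % 6 ≤ 1 → (rot r * rot r * (rot r * rot r) = 1) ∧
      rot r * rt3 = rt3 * rot r) ∧
    (∀ r : Fin 48, r.val % 6 ≤ 1 → rot r * rot r = 1 → rot r ≠ 1 → rot r * rot 6 = rot 6 * rot r →
      rot r * rot 1 = rot 1 * rot r → r = 24 ∨ r = 18 ∨ r = 42) ∧
    (∀ r ∈ ([6, 1, 24] : List (Fin 48)), r.val % 6 ≤ 1) := by decide +kernel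

theorem six_one_sub (r : Fin 48) (h : r ∈ ([6, 1] : List (Fin 48))) : r ∈ ([6, 1, 24] : List (Fin 48)) := by
  rcases List.mem_cons.1 h with rfl | h
  · exact List.mem_cons_self
  · exact List.mem_cons_of_mem _ (List.mem_cons.2 (Or.inl (List.mem_singleton.1 h)))

theorem adj_pairs : ∀ i i' : Fin 5, i = i' ∨
    (((i' : ℕ) + 1 = i ∨ (i : ℕ) + 1 = i') ∧ ∃ k : Perm (Fin 6), k * swap 0 1 = swap i.castSucc i.succ * k ∧
      k * swap 1 2 = swap i'.castSucc i'.succ * k) ∨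
    ((¬ ((i' : ℕ) + 1 = i ∨ (i : ℕ) + 1 = i')) ∧ i ≠ i' ∧ ∃ k : Perm (Fin 6), k * swap 0 1 = swap i.castSucc i.succ * k ∧
      k * swap 3 4 = swap i'.castSucc i'.succ * k) := by decide +kernel

theorem coxA_val (i i' : Fin 5) : (CoxeterMatrix.A 5) i i' =
    if i = i' then 1 else if (i' : ℕ) + 1 = i ∨ (i : ℕ) + 1 = i' then 3 else 2 := rfl

theorem swap_conj : ∀ i : Fin 5, ∃ k : Perm (Fin 6), k * swap 0 1 * k⁻¹ = swap i.castSucc i.succ := by decide +kernel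

theorem six_invol_reps : ∀ y : Perm (Fin 6), y * y = 1 → y ≠ 1 → ∃ k : Perm (Fin 6),
    k * y * k⁻¹ = swap 0 1 ∨ k * y * k⁻¹ = swap 0 1 * swap 3 4 ∨ k * y * k⁻¹ = cW := by decide +kernel

theorem centD_gens : (∀ m ∈ ([rot 6, rot 6 * tr u0, rot 12, rot 12 * tr u1, rot 1, tr u0, tr u1] : List Mon),
      m * rt3 = rt3 * m) ∧
    (∃ w : V3, w.2.2 = 0 ∧ tr w * rot 6 = rot 6 * tr u0 * tr w) ∧ rot 6 * (rot 6 * tr u0) = tr u0 ∧
    rot 6 * rot 24 = rot 30 ∧ rot 6 * rot 12 = rot 18 ∧ rot 18 * rot 24 = rot 42 ∧ rot 1 * rot 24 = rot 25 ∧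
    (rot 6 * (rot 6 * tr u0)) * (rot 6 * (rot 6 * tr u0)) * (rot 6 * (rot 6 * tr u0)) = 1 ∧
    (rot 6 * rot 12) * (rot 6 * rot 12) = 1 ∧ tr u0 ≠ 1 ∧ tr u0 ≠ rt3 ∧
    (∃ n : Fin 48, rot n * rot 30 = rot 18 * rot n) ∧ (∃ n : Fin 48, rot n * rot 6 = rot 24 * rot n) ∧
    rot 12 * (rot 12 * tr u1) = tr u1 := by decide +kernel

universe u

variable {G : Type u} [Group G] [Finite G]

namespace Frame3

variable (F : Frame3 G)

/-- Conjugacy to a rotation. -/
def Cls (r : Fin 48) (g : G) : Prop := ∃ h, h * F.φ (rot r) * h⁻¹ = g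

omit [Finite G] in
theorem cls_conj {r : Fin 48} {g : G} (h : F.Cls r g) (c : G) : F.Cls r (c * g * c⁻¹) := by
  obtain ⟨k, rfl⟩ := h
  exact ⟨c * k, by group⟩

omit [Finite G] in
theorem cls_mon {r r' n : Fin 48} (h : rot n * rot r = rot r' * rot n) : F.Cls r (F.φ (rot r')) :=
  ⟨F.φ (rot n), F.φ_conj_eq h⟩

omit [Finite G] in
theorem cls_trans {r r' : Fin 48} {g : G} (h : F.Cls r (F.φ (rot r'))) (h' : F.Cls r' g) : F.Cls r g := by
  obtain ⟨k, rfl⟩ := h'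
  exact F.cls_conj h k

omit [Finite G] in
theorem cls_symm {r r' : Fin 48} (h : F.Cls r (F.φ (rot r'))) : F.Cls r' (F.φ (rot r)) := by
  obtain ⟨k, e⟩ := h
  exact ⟨k⁻¹, by rw [← e]; group⟩

theorem classes (hgood : F.Good ev) : (∀ r ∈ ([30, 18, 42, 1, 25] : List (Fin 48)), ¬ F.Cls 24 (F.φ (rot r))) ∧
    (∀ r ∈ ([6, 24, 30, 18, 42, 25] : List (Fin 48)), ¬ F.Cls 1 (F.φ (rot r))) := by
  obtain ⟨s1, s2, s3⟩ : (∀ g : G, g * F.φ (rot 1) * g⁻¹ ≠ F.φ (rot 24)) ∧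
      (∀ g : G, g * F.φ (rot 25) * g⁻¹ ≠ F.φ (rot 24)) ∧ ∀ g : G, g * F.φ (rot 25) * g⁻¹ ≠ F.φ (rot 1) :=
    ⟨fun g => (F.sep_three g).1, fun g => (F.sep_three g).2.1, fun g => (F.sep_three g).2.2⟩
  have hs := F.sep_s fun g h => F.sep_of_good hgood g h
  obtain ⟨-, -, -, -, -, -, -, -, -, -, -, ⟨n1, h1⟩, ⟨n2, h2⟩, -⟩ := centD_gens
  have j42 : F.Cls 25 (F.φ (rot 42)) := F.cls_symm F.all_signs_conj
  have s30 : F.Cls 18 (F.φ (rot 30)) := F.cls_symm (F.cls_mon h1)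
  have d6 : F.Cls 24 (F.φ (rot 6)) := F.cls_symm (F.cls_mon h2)
  have hts : ∀ {r r' : Fin 48}, F.Cls r' (F.φ (rot r)) → (∀ g, g * F.φ (rot r') * g⁻¹ ≠ F.φ (rot 24)) →
      ¬ F.Cls 24 (F.φ (rot r)) := by
    intro r r' h hne hc
    obtain ⟨g, hg⟩ := F.cls_trans h (F.cls_symm hc)
    exact hne g hg
  have hts' : ∀ {r r' : Fin 48}, F.Cls r' (F.φ (rot r)) → (∀ g, g * F.φ (rot r') * g⁻¹ ≠ F.φ (rot 1)) →
      ¬ F.Cls 1 (F.φ (rot r)) := by
    intro r r' h hne hc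
    obtain ⟨g, hg⟩ := F.cls_trans h (F.cls_symm hc)
    exact hne g hg
  have hrefl : ∀ r, F.Cls r (F.φ (rot r)) := fun r => ⟨1, by group⟩
  refine ⟨fun r hr => ?_, fun r hr => ?_⟩ <;> simp only [List.mem_cons, List.not_mem_nil, or_false] at hr
  · rcases hr with rfl | rfl | rfl | rfl | rfl
    · exact hts s30 fun g => (hs g).1
    · exact hts (hrefl _) fun g => (hs g).1
    · exact hts j42 s2
    · exact hts (hrefl _) s1
    · exact hts (hrefl _) s2
  · have hd : ∀ g, g * F.φ (rot 24) * g⁻¹ ≠ F.φ (rot 1) := fun g e => s1 g⁻¹ (by rw [← e]; group)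
    rcases hr with rfl | rfl | rfl | rfl | rfl | rfl
    · exact hts' d6 hd
    · exact hts' (hrefl _) hd
    · exact hts' s30 fun g => (hs g).2.1
    · exact hts' (hrefl _) fun g => (hs g).2.1
    · exact hts' j42 s3
    · exact hts' (hrefl _) s3

omit [Finite G] in
theorem cls_six : F.Cls 24 (F.φ (rot 6)) := by
  obtain ⟨n, hn⟩ := centD_gens.2.2.2.2.2.2.2.2.2.2.2.2.1
  exact F.cls_symm (F.cls_mon hn)

/-- The centraliser of the sign change of one block modulo it. -/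
theorem cent_d_six (hgood : F.Good ev) : ∃ ψ : Subgroup.centralizer ({F.φ rt3} : Set G) →* Perm (Fin 6),
    Function.Surjective ψ ∧ ∀ h, ψ h = 1 ↔ (h : G) ∈ Subgroup.zpowers (F.φ rt3) := by
  classical
  haveI : Fact (Nat.Prime 2) := ⟨Nat.prime_two⟩
  set t := F.φ rt3 with ht
  set H := Subgroup.centralizer ({t} : Set G) with hH
  have hmemH : ∀ z, z ∈ H ↔ z * t = t * z := fun z => Subgroup.mem_centralizer_singleton_iff
  set Z := Subgroup.zpowers t with hZdef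
  obtain ⟨hADmul, hADel, hAD18, hAD1, hAD24, h144⟩ := inAD_facts
  obtain ⟨hcm, hdih, hw2, hflat, hnT⟩ := centD_mon
  have htsq : t * t = 1 := F.φ_sq (by decide +kernel)
  have hto : orderOf t = 2 := orderOf_eq_prime (by rw [pow_two, htsq]) (F.φ_ne_one (by decide))
  have hZcard : Nat.card Z = 2 := by rw [Nat.card_zpowers, hto]
  have hZlist : ∀ z ∈ Z, z = 1 ∨ z = t := fun z hz => by
    obtain ⟨i, rfl⟩ := Subgroup.mem_zpowers_iff.mp hz
    rw [← zpow_mod_orderOf, hto]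
    rcases Int.emod_two_eq_zero_or_one i with e | e <;> rw [Nat.cast_ofNat, e] <;> simp
  have hall : ∀ v : V3, v ≠ 0 → v.2.2 = 0 → F.Good v := fun v hv hv2 => by
    rcases three_types.1 v hv with h | h | ⟨r, rfl⟩
    · exact F.good_two h
    · obtain ⟨r, rfl⟩ := (three_types.2.2.1 v h).1
      exact F.good_act (by rw [F.k3]; rfl) hgood
    · exact absurd hv2 ((by decide +kernel : ∀ r : Fin 48, (act r xv).2.2 ≠ 0) r)
  let AD : Subgroup Mon :=
    { carrier := {m | inAD m = true}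
      mul_mem' := fun {a b} (ha : inAD a = true) (hb : inAD b = true) => by
        have h1 := hADel a ha
        have h2 := hADel b hb
        exact (hADmul a.v b.v a.g (by simpa using h1.2.2.2.2.1) b.g (by simpa using h2.2.2.2.2.1)
          h1.2.2.2.1 h2.2.2.2.1).1
      one_mem' := hAD1
      inv_mem' := fun {a} ha => (hADel a ha).1 }
  let A : Subgroup G := AD.map F.φ
  have hcA : Nat.card A = 18 := by
    rw [Subgroup.card_map_of_injective F.φ_inj, ← hAD18, ← Nat.card_eq_finsetCard]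
    exact Nat.card_congr (Equiv.subtypeEquivRight fun m => by
      simp only [Finset.mem_filter, Finset.mem_univ, true_and]; rfl)
  have hjA : ∀ v : V3, v.2.2 = 0 → F.j v ∈ A := fun v hv =>
    ⟨tr v, by show inAD (tr v) = true; simp [inAD, hv], rfl⟩
  have htA : t ∈ A := ⟨rt3, hAD24, rfl⟩
  have hfix3 : ∀ h ∈ H, ∀ v : V3, v.2.2 = 0 → h * F.j v * h⁻¹ * (F.j v)⁻¹ ∈ Z → h * F.j v = F.j v * h := by
    intro h hh v hv hz
    rcases hZlist _ hz with e | e
    · rw [mul_inv_eq_one, mul_inv_eq_iff_eq_mul] at e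
      exact e
    · exfalso
      rw [mul_inv_eq_iff_eq_mul] at e
      have hc : Commute t (F.j v) :=
        (F.φ_comm.2 ((hADel (tr v) (by simp [inAD, hv])).2.1)).symm
      have h3 : (h * F.j v * h⁻¹) ^ 3 = 1 := by rw [conj_pow, F.j_cube]; group
      rw [e, hc.mul_pow, F.j_cube, mul_one, pow_three', htsq, one_mul] at h3
      exact F.φ_ne_one (by decide) h3
  have hnA : ∀ h ∈ H, h ∈ F.N → h ∈ Subgroup.normalizer (A : Set G) := by
    have key : ∀ h ∈ H, h ∈ F.N → ∀ a ∈ A, h * a * h⁻¹ ∈ A := by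
      rintro h hh hhN _ ⟨a, ha, rfl⟩
      obtain ⟨m, rfl⟩ := F.mem_N3.1 hhN
      have hmt : m * rt3 = rt3 * m := F.φ_comm.1 ((hmemH _).1 hh)
      have hj := hjA _ ((hcm m hmt).1 a.v (hADel a ha).2.2.2.1)
      rcases (hADel a ha).2.2.2.2.2.2 with e | e <;> rw [e]
      · rw [F.φ_tr, F.φ_conj_j]; exact hj
      · rw [map_mul, F.φ_tr, ← conj_mul, F.φ_conj_j, ← ht, (hmemH _).1 hh, mul_inv_cancel_right]
        exact mul_mem hj htA
    intro h hh hhN
    rw [Subgroup.mem_normalizer_iff]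
    refine fun a => ⟨key h hh hhN a, fun ha => ?_⟩
    have := key h⁻¹ (inv_mem hh) (inv_mem hhN) _ ha
    simpa [mul_assoc] using this
  have hAN : ∀ h ∈ H, h ∈ Subgroup.normalizer (A : Set G) → h ∈ F.N := by
    intro h _ hn
    obtain ⟨m, hm, e⟩ := (Subgroup.mem_normalizer_iff.mp hn (F.j (1, 1, 0))).mp (hjA _ rfl)
    have h0 := (hADel m hm).2.2.2.2.2.1 (F.φ_inj (by
      rw [map_mul, map_mul, e, conj_mul, conj_mul, ← pow_three', F.j_cube, mul_one, mul_inv_cancel, map_one]))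
    exact F.ctrl_source (v := (1, 1, 0)) (v' := m.v) (F.good_two hw2) (by
      rw [← e, CfsgLib.Sym9Three.Frame.eq_tr_of_g h0]; rfl)
  let f : DihedralGroup 4 →* H := MonoidHom.mk' (fun x => ⟨F.φ (rot (dihRot 7 1 x)),
      (hmemH _).mpr (F.φ_comm.2 (hdih x).1).eq⟩) fun x y => Subtype.ext (by
    show F.φ (rot (dihRot 7 1 (x * y))) = F.φ (rot (dihRot 7 1 x)) * F.φ (rot (dihRot 7 1 y))
    rw [((dihRot_facts (7, 1) (by simp)) x y).1, ← rot_mul, map_mul])
  rcases le_normalizer_or_six H Z A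
      (Subgroup.zpowers_le.2 htA)
      (by rintro _ ⟨a, ha, rfl⟩; exact (hmemH _).mpr (F.φ_comm.2 (hADel a ha).2.1).eq)
      (fun z hz h hh => by
        rcases hZlist z hz with rfl | rfl
        · rw [mul_one, one_mul]
        · exact (hmemH h).mp hh)
      (by rw [hcA, hZcard])
      (by
        rintro _ ⟨a, ha, rfl⟩
        rw [pow_three', ← map_mul, ← map_mul]
        rcases (hADel a ha).2.2.1 with e | e <;> rw [e]
        · rw [map_one]; exact one_mem Z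
        · exact Subgroup.mem_zpowers _)
      (by
        rintro _ ⟨a, ha, rfl⟩ _ ⟨b, hb, rfl⟩
        have h1 := hADel a ha
        have h2 := hADel b hb
        have e : a * b = b * a := (hADmul a.v b.v a.g (by simpa using h1.2.2.2.2.1) b.g (by simpa using h2.2.2.2.2.1)
          h1.2.2.2.1 h2.2.2.2.1).2
        rw [← map_mul, e, map_mul, mul_inv_cancel_right, mul_inv_cancel]
        exact one_mem Z)
      (fun h hh hcj => by
        have c1 := hfix3 h hh u0 rfl (hcj _ (hjA _ rfl))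
        have c2 := hfix3 h hh u1 rfl (hcj _ (hjA _ rfl))
        obtain ⟨m, rfl⟩ := F.mem_N3.1 (hall u0 (by decide) rfl h c1)
        exact ⟨m, (hcm m (F.φ_comm.1 ((hmemH _).mp hh))).2 (F.φ_comm_j.1 c1) (F.φ_comm_j.1 c2), rfl⟩)
      (by
        rintro h hh _ ⟨a, ha, rfl⟩ haZ hc
        have h1 := hADel a ha
        refine hnA h hh (hall a.v (fun e => haZ ?_) h1.2.2.2.1 h (hfix3 h hh a.v h1.2.2.2.1 ?_))
        · rcases h1.2.2.2.2.2.2 with e' | e' <;> rw [e', e, CfsgLib.Sym9Three.tr_zero]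
          · rw [map_one]; exact one_mem Z
          · rw [one_mul]; exact Subgroup.mem_zpowers _
        · rcases h1.2.2.2.2.2.2 with e' | e' <;> rw [e'] at hc
          · exact hc
          · rw [map_mul, F.φ_tr, ← conj_mul, ← ht, (hmemH h).1 hh, mul_inv_cancel_right, mul_inv_rev,
              show h * F.j a.v * h⁻¹ * t * (t⁻¹ * (F.j a.v)⁻¹) = h * F.j a.v * h⁻¹ * (F.j a.v)⁻¹ by group] at hc
            exact hc)
      (by
        rw [hZcard, show 72 * 2 = 144 by norm_num, ← h144,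
          show H ⊓ Subgroup.normalizer (A : Set G) = H ⊓ F.N from le_antisymm
            (fun g hg => ⟨hg.1, hAN g hg.1 hg.2⟩) (fun g hg => ⟨hg.1, hnA g hg.1 hg.2⟩)]
        exact F.card_inf_N _ H fun m => by rw [hmemH]; exact F.φ_comm)
      f (fun x => hnA _ (f x).2 (F.φ_mem _))
      (fun x hx => by
        obtain ⟨m, hm, e⟩ := hx
        obtain rfl : m = rot (dihRot 7 1 x) := F.φ_inj e
        rcases (hADel _ hm).2.2.2.2.1 with h | h
        · exact ((dihRot_facts (7, 1) (by simp)) x x).2 h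
        · exact absurd h (hdih x).2) with h | h
  swap
  · exact h
  exfalso
  -- a Sylow 2-subgroup of exponent four
  have hHN : ∀ g, Commute g t → g ∈ F.N := fun g hg => hAN g ((hmemH g).2 hg) (h ((hmemH g).2 hg))
  obtain ⟨hT4, hTc, hTmem⟩ := TD_facts
  have hrep : ∀ m ∈ TD, m = rot m.g := fun m hm => by
    obtain ⟨v, r⟩ := m
    obtain rfl : v = 0 := hm.1
    rfl
  have hin : ∀ r ∈ ([6, 1, 24] : List (Fin 48)), F.φ (rot r) ∈ TD.map F.φ := fun r hr =>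
    ⟨rot r, ⟨rfl, hTmem r hr⟩, rfl⟩
  refine F.not_exp_four (P := TD.map F.φ) ?_ ?_ ?_
  · rintro ⟨_, m, hm, rfl⟩
    refine ⟨2, Subtype.ext ?_⟩
    show F.φ m ^ 4 = 1
    rw [← map_pow, hrep m hm, show (4 : ℕ) = 2 + 2 from rfl, pow_add, pow_two, (hT4 _ hm.2).1, map_one]
  · rintro g hg -
    obtain ⟨c, hc, hce⟩ := (Subgroup.mem_normalizer_iff.1 hg t).1 (hin 24 (by simp))
    have hcen : ∀ r ∈ ([6, 1] : List (Fin 48)), Commute (F.φ c) (F.φ (rot r)) := by
      intro r hr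
      have hr' : F.φ (rot r) ∈ TD.map F.φ := hin r (six_one_sub r hr)
      obtain ⟨a, ha, hae⟩ := (Subgroup.mem_normalizer_iff.1 (inv_mem hg) _).1 hr'
      rw [hce, show F.φ (rot r) = g * F.φ a * g⁻¹ by rw [hae]; group, hrep a ha]
      exact (F.φ_comm.2 (hT4 _ ha.2).2.symm).conj g
    have hc2 : rot c.g * rot c.g = 1 := F.φ_inj (by
      rw [map_mul, map_one, ← hrep c hc, hce, conj_mul, htsq, mul_one, mul_inv_cancel])
    have hc1 : rot c.g ≠ 1 := fun e => F.φ_ne_one (m := rt3) (by decide) (conj_eq_one_iff.1 (by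
      rw [← hce, hrep c hc, e, map_one]))
    have hcases := hTc c.g hc.2 hc2 hc1 (hrep c hc ▸ F.φ_comm.1 (hcen 6 (by simp)))
      (hrep c hc ▸ F.φ_comm.1 (hcen 1 (by simp)))
    have hcls : F.Cls 24 (F.φ c) := ⟨g, hce.symm⟩
    rw [hrep c hc] at hcls hce
    have hd := (F.classes hgood).1
    rcases hcases with e | e | e <;> rw [e] at hcls hce
    · obtain ⟨m, rfl⟩ := F.mem_N3.1 (hHN g (mul_inv_eq_iff_eq_mul.1 hce.symm))
      have hmt : m * rt3 = rt3 * m := F.φ_comm.1 (mul_inv_eq_iff_eq_mul.1 hce.symm)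
      have hv : ∀ r ∈ ([6, 1] : List (Fin 48)), (m * rot r * m⁻¹).v = 0 := fun r hr => by
        obtain ⟨a, ha, hae⟩ := (Subgroup.mem_normalizer_iff.1 hg _).1
          (hin r (six_one_sub r hr))
        rw [← map_inv, ← map_mul, ← map_mul] at hae
        rw [← F.φ_inj hae]
        exact ha.1
      exact ⟨m, hnT m hmt (hv 6 (by simp)) (hv 1 (by simp)), rfl⟩
    · exact absurd hcls (hd 18 (by simp))
    · exact absurd hcls (hd 42 (by simp))
  · rintro _ ⟨m, hm, rfl⟩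
    rw [← map_pow, hrep m hm, show (4 : ℕ) = 2 + 2 from rfl, pow_add, pow_two, (hT4 _ hm.2).1, map_one]

/-- The symmetric group of degree six centralising the sign change of one block. -/
structure SixD where
  /-- the embedding -/
  Φ : Perm (Fin 6) →* G
  inj : Function.Injective Φ
  comm : ∀ y, Commute (Φ y) (F.φ rt3)
  split : ∀ g, Commute g (F.φ rt3) → ∃ y, g = Φ y ∨ g = Φ y * F.φ rt3
  sep : ∀ y, Φ y ≠ F.φ rt3
  p0 : Φ (swap 0 1) = F.φ (rot 6)
  p1 : Φ (swap 3 4) = F.φ (rot 12)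
  a0 : Φ cA = F.j u0
  a1 : Φ cB = F.j u1
  w : Φ cW = F.φ (rot 1) ∨ Φ cW = F.φ (rot 25)

theorem exists_sixD (hgood : F.Good ev) : Nonempty F.SixD := by
  classical
  obtain ⟨ψ, hsurj, hker⟩ := F.cent_d_six hgood
  revert ψ
  set C := Subgroup.centralizer ({F.φ rt3} : Set G) with hC
  intro ψ hsurj hker
  have hmemC : ∀ z, z ∈ C ↔ z * F.φ rt3 = F.φ rt3 * z := fun z => Subgroup.mem_centralizer_singleton_iff
  obtain ⟨hgens, ⟨w, hw2, hwq⟩, h6q, h630, -, -, h125, hbr, hdd, hu01, hu024, -, -, h12q⟩ := centD_gens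
  obtain ⟨-, ⟨g1, g2, g3, g4, g5, g6, g7, g8⟩, -, -⟩ := dich_gens
  let S : Subgroup Mon :=
    { carrier := {m | m * rt3 = rt3 * m}
      mul_mem' := fun {a b} (ha : _ = _) (hb : _ = _) => (Commute.mul_left ha hb : Commute (a * b) rt3)
      one_mem' := (Commute.one_left _ : Commute 1 rt3)
      inv_mem' := fun {a} (ha : _ = _) => (Commute.inv_left ha : Commute a⁻¹ rt3) }
  let φC : S →* C := (F.φ.comp S.subtype).codRestrict C fun m => (hmemC _).2 (F.φ_comm.2 m.2).eq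
  have hφC : ∀ x : S, ((φC x : C) : G) = F.φ (x : Mon) := fun x => rfl
  let χ : S →* Perm (Fin 6) := ψ.comp φC
  have hS : ∀ m ∈ ([rot 6, rot 6 * tr u0, rot 12, rot 12 * tr u1, rot 1, tr u0, tr u1] : List Mon), m ∈ S := hgens
  obtain ⟨A, hAv⟩ : ∃ x : S, (x : Mon) = tr u0 := ⟨⟨tr u0, hS (tr u0) (by simp)⟩, rfl⟩
  obtain ⟨B, hBv⟩ : ∃ x : S, (x : Mon) = tr u1 := ⟨⟨tr u1, hS (tr u1) (by simp)⟩, rfl⟩
  obtain ⟨D0, hD0v⟩ : ∃ x : S, (x : Mon) = rot 6 := ⟨⟨rot 6, hS (rot 6) (by simp)⟩, rfl⟩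
  obtain ⟨D1, hD1v⟩ : ∃ x : S, (x : Mon) = rot 12 := ⟨⟨rot 12, hS (rot 12) (by simp)⟩, rfl⟩
  obtain ⟨Q0, hQ0v⟩ : ∃ x : S, (x : Mon) = rot 6 * tr u0 := ⟨⟨rot 6 * tr u0, hS (rot 6 * tr u0) (by simp)⟩, rfl⟩
  obtain ⟨T, hTv⟩ : ∃ x : S, (x : Mon) = rot 1 := ⟨⟨rot 1, hS (rot 1) (by simp)⟩, rfl⟩
  have htsq : F.φ rt3 * F.φ rt3 = 1 := F.φ_sq (by decide +kernel)
  have hZlist : ∀ z ∈ Subgroup.zpowers (F.φ rt3), z = 1 ∨ z = F.φ rt3 := fun z hz => by
    obtain ⟨i, rfl⟩ := Subgroup.mem_zpowers_iff.mp hz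
    rw [← Int.emod_add_mul_ediv i 2, zpow_add, zpow_mul, zpow_two, htsq, one_zpow, mul_one]
    rcases Int.emod_two_eq_zero_or_one i with e | e <;> rw [e] <;> simp
  have hne : χ A ≠ 1 := fun e => by
    rcases hZlist _ ((hker _).1 e) with h | h <;> rw [hφC, hAv] at h
    · exact F.φ_ne_one hu01 h
    · exact hu024 (F.φ_inj h)
  have hwr : Wr (χ A) (χ B) (χ D0) (χ D1) (χ T) :=
    { cube := by
        rw [← map_mul, ← map_mul, show A * A * A = 1 from Subtype.ext (by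
          simp only [Subgroup.coe_mul, Subgroup.coe_one, hAv]; exact g1), map_one]
      ne := hne
      comm := by rw [← map_mul, ← map_mul]; exact congrArg χ (Subtype.ext (by simp only [Subgroup.coe_mul, hAv, hBv]; exact g2))
      invert := by
        rw [← map_mul, ← map_mul, ← map_mul]
        exact congrArg χ (Subtype.ext (by simp only [Subgroup.coe_mul, hAv, hD0v]; exact g3))
      fix := by rw [← map_mul, ← map_mul]; exact congrArg χ (Subtype.ext (by simp only [Subgroup.coe_mul, hBv, hD0v]; exact g4))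
      sq := by rw [← map_mul, show D0 * D0 = 1 from Subtype.ext (by simp only [Subgroup.coe_mul, Subgroup.coe_one, hD0v]; exact g5), map_one]
      sqw := by rw [← map_mul, show T * T = 1 from Subtype.ext (by simp only [Subgroup.coe_mul, Subgroup.coe_one, hTv]; exact g6), map_one]
      move := by rw [← map_mul, ← map_mul]; exact congrArg χ (Subtype.ext (by simp only [Subgroup.coe_mul, hAv, hBv, hTv]; exact g7))
      moves := by rw [← map_mul, ← map_mul]; exact congrArg χ (Subtype.ext (by simp only [Subgroup.coe_mul, hD0v, hD1v, hTv]; exact g8)) }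
  obtain ⟨α, hα, ha, hb, hd0, hd1, hw⟩ := hwr.normalise
  let ψ1 : C →* Perm (Fin 6) := α.comp ψ
  have hs1 : Function.Surjective ψ1 := (Finite.injective_iff_surjective.1 hα).comp hsurj
  have hk1 : ∀ h, ψ1 h = 1 → (h : G) ∈ Subgroup.zpowers (F.φ rt3) := fun h e =>
    (hker h).1 (hα (e.trans (map_one α).symm))
  have hψφ : ∀ x : S, ψ1 (φC x) = α (χ x) := fun x => rfl
  -- the conjugates of the first sign change are determined by their images
  have huniq : ∀ g g' : C, ψ1 g = ψ1 g' → (∃ k, Commute k (F.φ rt3) ∧ k * F.φ (rot 6) * k⁻¹ = g) →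
      F.Cls 24 (g' : G) → (g : G) = g' := by
    intro g g' e ⟨k, hkd, hk⟩ h'
    rcases hZlist _ (hk1 (g⁻¹ * g') (by rw [map_mul, map_inv, e, inv_mul_cancel])) with h1 | h1
    · exact inv_mul_eq_one.1 h1
    · exfalso
      have h2 : (g' : G) = g * F.φ rt3 := by rw [← h1]; simp
      have h3 : k⁻¹ * g' * k⁻¹⁻¹ = F.φ (rot 30) := by
        rw [h2, ← hk, ← h630, map_mul]
        calc k⁻¹ * (k * F.φ (rot 6) * k⁻¹ * F.φ rt3) * k⁻¹⁻¹ = F.φ (rot 6) * (k⁻¹ * (F.φ rt3 * k)) := by group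
          _ = F.φ (rot 6) * F.φ rt3 := by rw [← hkd.eq, inv_mul_cancel_left]
      have h4 := F.cls_conj h' k⁻¹
      rw [h3] at h4
      exact (F.classes hgood).1 30 (by simp) h4
  have hQ : ∃ k, Commute k (F.φ rt3) ∧ k * F.φ (rot 6) * k⁻¹ = F.φ (rot 6 * tr u0) := by
    refine ⟨F.φ (tr w), (F.φ_comm_j.2 ((by decide +kernel : ∀ w : V3, w.2.2 = 0 → act (24 : Fin 48) w = w) w hw2)).symm,
      F.φ_conj_eq hwq⟩
  have hlift : ∀ i : Fin 5, ∃ g : C, ψ1 g = swap i.castSucc i.succ ∧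
      ∃ k, Commute k (F.φ rt3) ∧ k * F.φ (rot 6) * k⁻¹ = g := by
    intro i
    obtain ⟨k, hk⟩ := swap_conj i
    obtain ⟨h, hh⟩ := hs1 k
    exact ⟨h * φC D0 * h⁻¹, by rw [map_mul, map_mul, map_inv, hh, hψφ, hd0, hk], h,
      Subgroup.mem_centralizer_singleton_iff.1 h.2, by rw [Subgroup.coe_mul, Subgroup.coe_mul, Subgroup.coe_inv, hφC, hD0v]⟩
  choose f hfψ hfc using hlift
  have hcls : ∀ x : G, (∃ k, Commute k (F.φ rt3) ∧ k * F.φ (rot 6) * k⁻¹ = x) → F.Cls 24 x := fun x ⟨k, _, e⟩ =>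
    e ▸ F.cls_conj F.cls_six k
  -- the relations
  have hpair : ∀ (i i' : Fin 5) (k : Perm (Fin 6)) (b : S), k * swap 0 1 = swap i.castSucc i.succ * k →
      k * α (χ b) = swap i'.castSucc i'.succ * k → F.Cls 24 (F.φ (b : Mon)) →
      ∃ h : C, (f i : G) = h * F.φ (rot 6) * (h : G)⁻¹ ∧ (f i' : G) = h * F.φ (b : Mon) * (h : G)⁻¹ := by
    intro i i' k b h1 h2 hbc
    obtain ⟨h, hh⟩ := hs1 k
    refine ⟨h, ?_, ?_⟩
    · have := huniq (f i) (h * φC D0 * h⁻¹) (by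
        rw [hfψ, map_mul, map_mul, map_inv, hh, hψφ, hd0, h1, mul_inv_cancel_right]) (hfc i) (by
        rw [Subgroup.coe_mul, Subgroup.coe_mul, Subgroup.coe_inv, hφC, hD0v]; exact F.cls_conj F.cls_six _)
      rw [this, Subgroup.coe_mul, Subgroup.coe_mul, Subgroup.coe_inv, hφC, hD0v]
    · have := huniq (f i') (h * φC b * h⁻¹) (by
        rw [hfψ, map_mul, map_mul, map_inv, hh, hψφ, h2, mul_inv_cancel_right]) (hfc i') (by
        rw [Subgroup.coe_mul, Subgroup.coe_mul, Subgroup.coe_inv, hφC]; exact F.cls_conj hbc _)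
      rw [this, Subgroup.coe_mul, Subgroup.coe_mul, Subgroup.coe_inv, hφC]
  have hq0 : α (χ Q0) = swap 1 2 := by
    rw [← six_middle_conj.1, ← hd0, ← ha, ← map_mul α, ← map_mul χ]
    exact congrArg (fun x => α (χ x)) (Subtype.ext (by rw [Subgroup.coe_mul, hQ0v, hD0v, hAv]))
  have hd1cls : F.Cls 24 (F.φ (rot 12)) :=
    F.cls_trans F.cls_six (F.cls_mon ((by decide +kernel : rot 1 * rot 6 = rot 12 * rot 1)))
  have hfrel : (CoxeterMatrix.A 5).IsLiftable fun i => (f i : G) := by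
    intro i i'
    show ((f i : G) * (f i' : G)) ^ _ = 1
    rcases adj_pairs i i' with rfl | ⟨hm, k, h1, h2⟩ | ⟨hm, hne', k, h1, h2⟩
    · obtain ⟨k, -, hk⟩ := hfc i
      rw [CoxeterMatrix.diagonal, pow_one, ← hk, conj_mul, F.φ_sq (by decide +kernel), mul_one, mul_inv_cancel]
    · obtain ⟨h, e, e'⟩ := hpair i i' k Q0 h1 (by rw [hq0]; exact h2) (by rw [hQ0v]; exact hcls _ hQ)
      rw [coxA_val, if_neg (by omega), if_pos hm, e, e', conj_mul, conj_pow, hQ0v, ← map_mul, ← map_pow, pow_three', hbr, map_one, mul_one, mul_inv_cancel]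
    · obtain ⟨h, e, e'⟩ := hpair i i' k D1 h1 (by rw [hd1]; exact h2) (by rw [hD1v]; exact hd1cls)
      rw [coxA_val, if_neg hne', if_neg hm, e, e', conj_mul, conj_pow, hD1v, ← map_mul, ← map_pow, pow_two, hdd, map_one, mul_one, mul_inv_cancel]
  obtain ⟨cs, hcs⟩ := Cfsg.Agent.S2530.result 5
  let Φ : Perm (Fin 6) →* G := cs.lift ⟨_, hfrel⟩
  have hΦ : ∀ i : Fin 5, Φ (swap i.castSucc i.succ) = f i := fun i => by
    rw [← hcs i]; exact cs.lift_apply_simple hfrel i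
  have hmem : ∀ y, Φ y ∈ C := fun y => by
    have hS' : C.comap Φ = ⊤ := CfsgLib.Sym9Three.six_closure _ (by rw [Subgroup.mem_comap]; exact (hΦ 0) ▸ (f 0).2)
      (by rw [Subgroup.mem_comap]; exact (hΦ 1) ▸ (f 1).2) (by rw [Subgroup.mem_comap]; exact (hΦ 2) ▸ (f 2).2)
      (by rw [Subgroup.mem_comap]; exact (hΦ 3) ▸ (f 3).2) (by rw [Subgroup.mem_comap]; exact (hΦ 4) ▸ (f 4).2)
    exact Subgroup.mem_comap.1 (hS' ▸ Subgroup.mem_top y)
  let ΦC : Perm (Fin 6) →* C := Φ.codRestrict C hmem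
  have hid : ∀ y, ψ1 (ΦC y) = y := by
    have e : ψ1.comp ΦC = MonoidHom.id _ := by
      refine six_hom_ext ?_ ?_ ?_ ?_ ?_
      · exact (congrArg ψ1 (Subtype.ext (hΦ 0))).trans (hfψ 0)
      · exact (congrArg ψ1 (Subtype.ext (hΦ 1))).trans (hfψ 1)
      · exact (congrArg ψ1 (Subtype.ext (hΦ 2))).trans (hfψ 2)
      · exact (congrArg ψ1 (Subtype.ext (hΦ 3))).trans (hfψ 3)
      · exact (congrArg ψ1 (Subtype.ext (hΦ 4))).trans (hfψ 4)
    exact fun y => DFunLike.congr_fun e y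
  have hval : ∀ (i : Fin 5) (b : S), α (χ b) = swap i.castSucc i.succ → F.Cls 24 (F.φ (b : Mon)) →
      Φ (swap i.castSucc i.succ) = F.φ (b : Mon) := fun i b e hbc => by
    rw [hΦ]; exact huniq (f i) (φC b) (by rw [hfψ, hψφ, e]) (hfc i) hbc
  have hp0 : Φ (swap 0 1) = F.φ (rot 6) := by
    rw [← hD0v]; exact hval 0 D0 hd0 (hD0v.symm ▸ F.cls_six)
  have hq0' : Φ (swap 1 2) = F.φ (rot 6 * tr u0) := by
    rw [← hQ0v]; exact hval 1 Q0 hq0 (hQ0v.symm ▸ hcls _ hQ)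
  have hp1 : Φ (swap 3 4) = F.φ (rot 12) := by
    rw [← hD1v]; exact hval 3 D1 hd1 (hD1v.symm ▸ hd1cls)
  have hsplit : ∀ g, Commute g (F.φ rt3) → ∃ y, g = Φ y ∨ g = Φ y * F.φ rt3 := fun g hg => by
    refine ⟨ψ1 ⟨g, (hmemC g).2 hg.eq⟩, ?_⟩
    rcases hZlist _ (hk1 ((ΦC (ψ1 ⟨g, (hmemC g).2 hg.eq⟩))⁻¹ * ⟨g, (hmemC g).2 hg.eq⟩) (by
      rw [map_mul, map_inv, hid, inv_mul_cancel])) with h | h
    · exact Or.inl (inv_mul_eq_one.1 h).symm
    · exact Or.inr (eq_mul_of_inv_mul_eq h)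
  have hsep : ∀ y, Φ y ≠ F.φ rt3 := fun y e => by
    have h1 : ψ1 (ΦC y) = 1 := by
      show α (ψ (ΦC y)) = 1
      rw [(hker _).2 (show Φ y ∈ Subgroup.zpowers (F.φ rt3) from e ▸ Subgroup.mem_zpowers _), map_one]
    rw [hid] at h1
    exact F.φ_ne_one (m := rt3) (by decide) (by rw [← e, h1, map_one])
  refine ⟨{ Φ := Φ
            inj := fun a b e => by rw [← hid a, ← hid b, show ΦC a = ΦC b from Subtype.ext e]
            comm := fun y => Subgroup.mem_centralizer_singleton_iff.1 (hmem y)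
            split := hsplit
            sep := hsep
            p0 := hp0
            p1 := hp1
            a0 := ?_
            a1 := ?_
            w := ?_ }⟩
  · rw [cA, map_mul, hp0, hq0', ← map_mul, h6q]; rfl
  · obtain ⟨Q1, hQ1v⟩ : ∃ x : S, (x : Mon) = rot 12 * tr u1 := ⟨⟨rot 12 * tr u1, hS (rot 12 * tr u1) (by simp)⟩, rfl⟩
    have hq1 : α (χ Q1) = swap 4 5 := by
      rw [← six_middle_conj.2, ← hd1, ← hb, ← map_mul α, ← map_mul χ]
      exact congrArg (fun x => α (χ x)) (Subtype.ext (by rw [Subgroup.coe_mul, hQ1v, hD1v, hBv]))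
    have hq1c : F.Cls 24 (F.φ (rot 12 * tr u1)) := by
      obtain ⟨k, -, hk⟩ := hQ
      have : F.φ (rot 12 * tr u1) = F.φ (rot 1) * F.φ (rot 6 * tr u0) * (F.φ (rot 1))⁻¹ :=
        (F.φ_conj_eq ((by decide +kernel : rot 1 * (rot 6 * tr u0) = rot 12 * tr u1 * rot 1))).symm
      rw [this, ← hk]
      exact F.cls_conj (F.cls_conj F.cls_six k) _
    have hq1' : Φ (swap 4 5) = F.φ (rot 12 * tr u1) := by
      rw [← hQ1v]; exact hval 4 Q1 hq1 (hQ1v.symm ▸ hq1c)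
    rw [cB, map_mul, hp1, hq1', ← map_mul, h12q]; rfl
  · have hwψ : ψ1 ((ΦC cW)⁻¹ * φC T) = 1 := by rw [map_mul, map_inv, hid, hψφ, hw, inv_mul_cancel]
    rcases hZlist _ (hk1 _ hwψ) with h | h
    · left
      show Φ cW = _
      rw [← hTv]
      exact inv_mul_eq_one.1 h
    · right
      show Φ cW = _
      have h' : F.φ (rot 1) = Φ cW * F.φ rt3 := by rw [← hTv]; exact eq_mul_of_inv_mul_eq h
      rw [← h125, map_mul, h', mul_assoc, htsq, mul_one]

end Frame3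

end CfsgPSp43Real
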