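import Cfsg.Agent.Lib.PSp43Real.Aut.CentD
import Cfsg.Agent.Lib.Chev.CoxeterE6

/-!
Reflections satisfying the relations of the Weyl group of type E6 when the translations have small centralisers.
-/

set_option autoImplicit false
set_option linter.style.haveILetI false
set_option synthInstance.maxSize 4000
set_option maxRecDepth 8000

namespace CfsgPSp43Real

open Subgroup Equiv Equiv.Perm
open CfsgLib.Sym9Three (V3 xv Mon Sub tr rot act eType ev rt3)

theorem transp_facts : (∀ k : Perm (Fin 6), k * swap 0 1 * k⁻¹ * swap 0 1 = swap 0 1 * (k * swap 0 1 * k⁻¹) →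
      k * swap 0 1 * k⁻¹ * swap 3 4 = swap 3 4 * (k * swap 0 1 * k⁻¹) →
      k * swap 0 1 * k⁻¹ = swap 0 1 ∨ k * swap 0 1 * k⁻¹ = swap 3 4 ∨ k * swap 0 1 * k⁻¹ = swap 2 5) ∧
    (∃ k : Perm (Fin 6), k * swap 0 1 * k⁻¹ = swap 2 5) := by decide +kernel

/-- The monomial parts of the six generators. -/
def genE6 : Fin 6 → Mon := ![rot 6, rot 24 * tr ev, rot 6 * tr u0, 1, rot 12 * tr u1, rot 12]

theorem genE6_rel : (∀ i j : Fin 6, i ≠ 3 → j ≠ 3 → (genE6 i * genE6 j) ^ (CoxeterMatrix.E₆.M i j) = 1) ∧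
    (∀ i : Fin 6, CoxeterMatrix.E₆.M i i = 1) ∧ CoxeterMatrix.E₆.M 0 3 = 2 ∧ CoxeterMatrix.E₆.M 1 3 = 3 ∧
    CoxeterMatrix.E₆.M 2 3 = 3 ∧ CoxeterMatrix.E₆.M 4 3 = 3 ∧ CoxeterMatrix.E₆.M 5 3 = 2 := by decide +kernel

theorem refl_mon : rot 3 * rot 24 = rot 6 * rot 3 ∧ rot 3 * rot 6 = rot 24 * rot 3 ∧ rot 3 * rot 12 = rot 12 * rot 3 ∧
    rot 3 * (rot 6 * tr u0) = rot 24 * tr ev * rot 3 ∧ rot 3 * rot 3 = 1 ∧
    rot 6 * tr u0 = rot 6 * tr u0 ∧ rot 12 * rot 24 = rot 24 * rot 12 ∧ rot 6 * rot 24 = rot 24 * rot 6 := by decide +kernel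

/-- The reflection of the highest root as a word. -/
def highWord : List (Fin 6) := [1, 3, 4, 5, 2, 3, 4, 0, 2, 3, 1, 3, 2, 0, 4, 3, 2, 5, 4, 3, 1]

/-- The reflection of the highest root. -/
def highE6 : CoxeterMatrix.E₆.Group := (highWord.map CoxeterMatrix.E₆.simple).prod

theorem high_perm : ∀ i ∈ ([0, 2, 3, 4, 5] : List (Fin 6)), ∀ s,
    CfsgLib.Chev.chevE6.refl i ((highWord.foldr (fun i x => CfsgLib.Chev.chevE6.refl i x) s)) =
      highWord.foldr (fun i x => CfsgLib.Chev.chevE6.refl i x) (CfsgLib.Chev.chevE6.refl i s) := by decide +kernel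

theorem high_comm (i : Fin 6) (hi : i ∈ ([0, 2, 3, 4, 5] : List (Fin 6))) :
    Commute (CoxeterMatrix.E₆.simple i) highE6 := by
  obtain ⟨e, he⟩ := CfsgLib.Chev.coxIsoE6
  refine e.injective (Subtype.ext ?_)
  have hh : (e highE6 : Equiv.Perm (Fin Cfsg.Lie.chevE6.nroots)) =
      (highWord.map CfsgLib.Chev.chevE6.reflPerm).prod := by
    rw [highE6, map_list_prod, SubmonoidClass.coe_list_prod, List.map_map, List.map_map]
    exact congrArg List.prod (List.map_congr_left fun i _ => he i)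
  rw [map_mul, map_mul, Subgroup.coe_mul, Subgroup.coe_mul, he, hh]
  refine Equiv.ext fun s => ?_
  exact high_perm i hi s

universe u

variable {G : Type u} [Group G] [Finite G]

namespace Frame3

variable {F : Frame3 G} (hgood : F.Good ev) (D : F.SixD)

omit [Finite G] in
theorem SixD.cls_transp (k : Perm (Fin 6)) : F.Cls 24 (D.Φ (k * swap 0 1 * k⁻¹)) := by
  rw [map_mul, map_mul, map_inv, D.p0]
  exact F.cls_conj F.cls_six _

omit [Finite G] in
theorem SixD.invol_cases {g : G} (hg : Commute g (F.φ rt3)) (h2 : g * g = 1) (h1 : g ≠ 1) (hd : g ≠ F.φ rt3) :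
    ∃ k, ∃ r ∈ ([6, 30, 18, 42, 1, 25] : List (Fin 48)), D.Φ k * g * (D.Φ k)⁻¹ = F.φ (rot r) ∧
      (r = 6 → g = D.Φ (k⁻¹ * swap 0 1 * k)) := by
  have htsq : F.φ rt3 * F.φ rt3 = 1 := F.φ_sq (by decide +kernel)
  obtain ⟨-, -, -, h630, h618, h1842, h125, -⟩ := centD_gens
  obtain ⟨y, hy⟩ := D.split g hg
  have hy2 : y * y = 1 := D.inj (by
    rw [map_mul, map_one, ← h2]
    rcases hy with e | e <;> rw [e]
    rw [← mul_assoc, mul_assoc (D.Φ y) (F.φ rt3), ← (D.comm y).eq, ← mul_assoc, mul_assoc _ (F.φ rt3), htsq, mul_one])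
  have hy1 : y ≠ 1 := fun e => by
    rcases hy with e' | e' <;> rw [e, map_one] at e'
    · exact h1 e'
    · exact hd (e'.trans (one_mul _))
  obtain ⟨k, hk⟩ := six_invol_reps y hy2 hy1
  have hswap : D.Φ (swap 0 1 * swap 3 4) = F.φ (rot 18) := by rw [map_mul, D.p0, D.p1, ← map_mul, h618]
  have hc : ∀ x : G, D.Φ k * (x * F.φ rt3) * (D.Φ k)⁻¹ = D.Φ k * x * (D.Φ k)⁻¹ * F.φ rt3 := fun x => by
    calc D.Φ k * (x * F.φ rt3) * (D.Φ k)⁻¹ = D.Φ k * x * (F.φ rt3 * (D.Φ k)⁻¹) := by group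
      _ = _ := by rw [← (D.comm k).inv_left.eq]; group
  have hconj : D.Φ k * D.Φ y * (D.Φ k)⁻¹ = D.Φ (k * y * k⁻¹) := by rw [map_mul, map_mul, map_inv]
  have fin : ∀ r ∈ ([30, 18, 42, 1, 25] : List (Fin 48)), D.Φ k * g * (D.Φ k)⁻¹ = F.φ (rot r) →
      ∃ k, ∃ r ∈ ([6, 30, 18, 42, 1, 25] : List (Fin 48)), D.Φ k * g * (D.Φ k)⁻¹ = F.φ (rot r) ∧
        (r = 6 → g = D.Φ (k⁻¹ * swap 0 1 * k)) := fun r hr e =>
    ⟨k, r, List.mem_cons_of_mem _ hr, e, fun h6 => absurd (h6 ▸ hr) (by decide)⟩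
  rcases hy with e | e <;> rcases hk with hk | hk | hk
  · refine ⟨k, 6, by simp, by rw [e, hconj, hk, D.p0], fun _ => ?_⟩
    rw [e, ← hk]; congr 1; group
  · exact fin 18 (by simp) (by rw [e, hconj, hk, hswap])
  · rcases D.w with hw | hw
    · exact fin 1 (by simp) (by rw [e, hconj, hk, hw])
    · exact fin 25 (by simp) (by rw [e, hconj, hk, hw])
  · exact fin 30 (by simp) (by rw [e, hc, hconj, hk, D.p0, ← map_mul, h630])
  · exact fin 42 (by simp) (by rw [e, hc, hconj, hk, hswap, ← map_mul, h1842])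
  · rcases D.w with hw | hw
    · exact fin 25 (by simp) (by rw [e, hc, hconj, hk, hw, ← map_mul, h125])
    · exact fin 1 (by simp) (by rw [e, hc, hconj, hk, hw, ← h125, map_mul, mul_assoc, htsq, mul_one])

omit [Finite G] in
theorem cls_invol {r : Fin 48} (h : rot r * rot r = 1 ∧ rot r ≠ 1) {g : G} (hg : F.Cls r g) : g * g = 1 ∧ g ≠ 1 := by
  obtain ⟨k, rfl⟩ := hg
  exact ⟨by rw [conj_mul, F.φ_sq h.1, mul_one, mul_inv_cancel], fun e => F.φ_ne_one h.2 (conj_eq_one_iff.1 e)⟩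

include hgood

/-- The conjugates of the sign change in its centraliser. -/
theorem SixD.d_type {g : G} (hg : Commute g (F.φ rt3)) (h : F.Cls 24 g) :
    g = F.φ rt3 ∨ ∃ k, g = D.Φ (k * swap 0 1 * k⁻¹) := by
  obtain ⟨h2, h1⟩ := cls_invol (F := F) ⟨by decide +kernel, by decide⟩ h
  refine or_iff_not_imp_left.2 fun hd => ?_
  obtain ⟨k, r, hr, e, h6⟩ := D.invol_cases hg h2 h1 hd
  rcases List.mem_cons.1 hr with rfl | hr
  · exact ⟨k⁻¹, by rw [inv_inv]; exact h6 rfl⟩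
  · exact absurd (e ▸ F.cls_conj h _) ((F.classes hgood).1 r hr)

/-- The conjugates of the exchange in the centraliser of the sign change. -/
theorem SixD.t_type {g : G} (hg : Commute g (F.φ rt3)) (h : F.Cls 1 g) :
    ∃ k, D.Φ k * g * (D.Φ k)⁻¹ = F.φ (rot 1) := by
  obtain ⟨h2, h1⟩ := cls_invol (F := F) ⟨by decide +kernel, by decide⟩ h
  have hd : g ≠ F.φ rt3 := fun e => (F.classes hgood).2 24 (by simp) (by rw [e] at h; exact h)
  obtain ⟨k, r, hr, e, -⟩ := D.invol_cases hg h2 h1 hd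
  refine ⟨k, ?_⟩
  simp only [List.mem_cons, List.not_mem_nil, or_false] at hr
  rcases hr with rfl | rfl | rfl | rfl | rfl | rfl
  case inr.inr.inr.inr.inl => exact e
  all_goals exact absurd (e ▸ F.cls_conj h _) ((F.classes hgood).2 _ (by simp))

omit hgood

/-- The fourth conjugate commuting with the three sign changes. -/
def SixD.wl : G := D.Φ (swap 2 5)

omit [Finite G] in
theorem SixD.wl_props : F.Cls 24 D.wl ∧ Commute D.wl (F.φ (rot 6)) ∧ Commute D.wl (F.φ (rot 12)) ∧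
    Commute D.wl (F.φ rt3) ∧ D.wl ≠ F.φ (rot 6) ∧ D.wl ≠ F.φ (rot 12) ∧ D.wl ≠ F.φ rt3 := by
  obtain ⟨k, hk⟩ := transp_facts.2
  refine ⟨?_, ?_, ?_, D.comm _, fun e => ?_, fun e => ?_, D.sep _⟩
  · rw [SixD.wl, ← hk]; exact D.cls_transp k
  · rw [SixD.wl, ← D.p0]; exact (show Commute (swap (2 : Fin 6) 5) (swap 0 1) by unfold Commute SemiconjBy; decide +kernel).map D.Φ
  · rw [SixD.wl, ← D.p1]; exact (show Commute (swap (2 : Fin 6) 5) (swap 3 4) by unfold Commute SemiconjBy; decide +kernel).map D.Φ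
  · rw [SixD.wl, ← D.p0] at e; exact absurd (D.inj e) (by decide)
  · rw [SixD.wl, ← D.p1] at e; exact absurd (D.inj e) (by decide)

include hgood

/-- It is unique. -/
theorem SixD.wl_unique {g : G} (h : F.Cls 24 g) (h0 : Commute g (F.φ (rot 6))) (h1 : Commute g (F.φ (rot 12)))
    (h2 : Commute g (F.φ rt3)) (n0 : g ≠ F.φ (rot 6)) (n1 : g ≠ F.φ (rot 12)) (n2 : g ≠ F.φ rt3) : g = D.wl := by
  rcases D.d_type hgood h2 h with e | ⟨k, rfl⟩
  · exact absurd e n2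
  · rw [← D.p0] at h0
    rw [← D.p1] at h1
    rcases transp_facts.1 k (D.inj (by rw [map_mul D.Φ _ (swap 0 1), map_mul D.Φ (swap 0 1)]; exact h0.eq))
      (D.inj (by rw [map_mul D.Φ _ (swap 3 4), map_mul D.Φ (swap 3 4)]; exact h1.eq)) with e | e | e <;> rw [e]
    · exact absurd (by rw [e, D.p0]) n0
    · exact absurd (by rw [e, D.p1]) n1
    · rfl

/-- It is invariant under the exchange of the first and the last block. -/
theorem SixD.wl_perm : F.φ (rot 3) * D.wl * (F.φ (rot 3))⁻¹ = D.wl := by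
  obtain ⟨hc, h0, h1, h2, n0, n1, n2⟩ := D.wl_props
  obtain ⟨e24, e6, e12, -⟩ := refl_mon
  have c6 := F.φ_conj_eq e6
  have c12 := F.φ_conj_eq e12
  have c24 := F.φ_conj_eq e24
  refine D.wl_unique hgood (F.cls_conj hc _) ?_ ?_ ?_ ?_ ?_ ?_
  · rw [← c24]; exact h2.conj _
  · rw [← c12]; exact h1.conj _
  · rw [show rt3 = rot 24 from rfl, ← c6]; exact h0.conj _
  · rw [← c24]; exact fun e => n2 (mul_left_cancel (mul_right_cancel e))
  · rw [← c12]; exact fun e => n1 (mul_left_cancel (mul_right_cancel e))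
  · rw [show rt3 = rot 24 from rfl, ← c6]; exact fun e => n0 (mul_left_cancel (mul_right_cancel e))

/-- The six reflections satisfy the relations. -/
theorem SixD.exists_hom : ∃ ρ : CoxeterMatrix.E₆.Group →* G, ρ (CoxeterMatrix.E₆.simple 3) = D.wl ∧
    ∀ i : Fin 6, i ≠ 3 → ρ (CoxeterMatrix.E₆.simple i) = F.φ (genE6 i) := by
  let f : Fin 6 → G := fun i => if i = 3 then D.wl else F.φ (genE6 i)
  have f3 : f 3 = D.wl := if_pos rfl
  have fne : ∀ i, i ≠ 3 → f i = F.φ (genE6 i) := fun i h => if_neg h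
  obtain ⟨hrel, hdiag, m0, m1, m2, m4, m5⟩ := genE6_rel
  obtain ⟨hc, h0, h1, h2, -⟩ := D.wl_props
  have hw2 : D.wl * D.wl = 1 := by rw [SixD.wl, ← map_mul, swap_mul_self, map_one]
  have hq0 : F.φ (rot 6 * tr u0) = D.Φ (swap 1 2) := by
    rw [← six_middle_conj.1, map_mul, map_mul, D.p0, D.a0, F.φ_tr]
  have hq1 : F.φ (rot 12 * tr u1) = D.Φ (swap 4 5) := by
    rw [← six_middle_conj.2, map_mul, map_mul, D.p1, D.a1, F.φ_tr]
  have hinv : ∀ r : Fin 48, rot r * rot r = 1 → F.φ (rot r) * F.φ (rot r) = 1 := fun r h => F.φ_sq h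
  have hq0w : (D.Φ (swap 1 2) * D.wl) ^ 3 = 1 := by
    rw [SixD.wl, ← map_mul, ← map_pow,
      (by decide +kernel : (swap (1 : Fin 6) 2 * swap 2 5) ^ 3 = 1), map_one]
  have side : ∀ i : Fin 6, i ≠ 3 → (f i * D.wl) ^ (CoxeterMatrix.E₆.M i 3) = 1 := by
    intro i hi
    rw [fne i hi]
    fin_cases i
    · show (F.φ (rot 6) * D.wl) ^ CoxeterMatrix.E₆.M 0 3 = 1
      rw [m0, h0.symm.mul_pow, pow_two, pow_two, hw2, hinv 6 (by decide +kernel), one_mul]
    · show (F.φ (rot 24 * tr ev) * D.wl) ^ CoxeterMatrix.E₆.M 1 3 = 1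
      rw [m1, ← F.φ_conj_eq refl_mon.2.2.2.1, ← D.wl_perm hgood, conj_mul, conj_pow, hq0, hq0w, mul_one, mul_inv_cancel]
    · show (F.φ (rot 6 * tr u0) * D.wl) ^ CoxeterMatrix.E₆.M 2 3 = 1
      rw [m2, hq0, hq0w]
    · exact absurd rfl hi
    · show (F.φ (rot 12 * tr u1) * D.wl) ^ CoxeterMatrix.E₆.M 4 3 = 1
      rw [m4, hq1, SixD.wl, ← map_mul, ← map_pow,
        (by decide +kernel : (swap (4 : Fin 6) 5 * swap 2 5) ^ 3 = 1), map_one]
    · show (F.φ (rot 12) * D.wl) ^ CoxeterMatrix.E₆.M 5 3 = 1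
      rw [m5, h1.symm.mul_pow, pow_two, pow_two, hw2, hinv 12 (by decide +kernel), one_mul]
  have hf : CoxeterMatrix.E₆.IsLiftable f := by
    intro i j
    show (f i * f j) ^ CoxeterMatrix.E₆.M i j = 1
    by_cases hi : i = 3 <;> by_cases hj : j = 3
    · rw [hi, hj, f3, hw2, one_pow]
    · rw [hi, f3, CoxeterMatrix.E₆.isSymm.apply]
      have h := side j hj
      rw [show D.wl * f j = (f j)⁻¹ * (f j * D.wl) * f j by group,
        show ((f j)⁻¹ * (f j * D.wl) * f j) = (f j)⁻¹ * (f j * D.wl) * (f j)⁻¹⁻¹ by rw [inv_inv], conj_pow, h]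
      group
    · rw [hj, f3]; exact side i hi
    · rw [fne i hi, fne j hj, ← map_mul, ← map_pow, hrel i j hi hj, map_one]
  refine ⟨CoxeterMatrix.E₆.toCoxeterSystem.lift ⟨f, hf⟩, ?_, fun i hi => ?_⟩
  · rw [← f3]; exact CoxeterMatrix.E₆.toCoxeterSystem.lift_apply_simple hf 3
  · rw [← fne i hi]; exact CoxeterMatrix.E₆.toCoxeterSystem.lift_apply_simple hf i

end Frame3

end CfsgPSp43Real
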