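import Cfsg.Agent.Lib.PSp43Real.Aut.Cent

/-!
The centralisers of the involutions lie in the image of the Weyl group, which is therefore the whole group.
-/

set_option autoImplicit false
set_option linter.style.haveILetI false
set_option synthInstance.maxSize 4000
set_option maxRecDepth 8000

namespace CfsgPSp43Real

open Subgroup Equiv Equiv.Perm
open CfsgLib.Sym9Three (V3 xv Mon Sub tr rot act eType ev rt3)

theorem top_facts : (∃ a : V3, act (36 : Fin 48) a = a ∧ tr a * rot 6 = rot 6 * tr u0 * tr a) ∧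
    rot 36 * rot 24 = rot 12 ∧ rot 25 * rot 24 = rot 1 ∧ rot 3 * rot 24 = rot 6 * rot 3 ∧
    rot 12 * rot 24 = rot 36 ∧ rot 6 * rot 24 = rot 30 ∧ rot 24 * rot 1 = rot 25 ∧
    rot 6 * (rot 6 * tr u0) = tr u0 ∧ eType u0 := by decide +kernel

universe u

variable {G : Type u} [Group G] [Finite G]

namespace Frame3

variable {F : Frame3 G} (hgood : F.Good ev) (D : F.SixD) {M : Subgroup G} (hN : F.N ≤ M)
  (hCd : ∀ g, Commute g (F.φ rt3) → g ∈ M)

omit [Finite G] in
theorem rt3_sq : F.φ rt3 * F.φ rt3 = 1 := F.φ_sq (by decide +kernel)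

omit [Finite G] in
theorem cls_24 : F.Cls 24 (F.φ rt3) := ⟨1, by group⟩

omit [Finite G] in
theorem odd_pow_eight {O : Subgroup G} (hodd : Odd (Nat.card O)) {o : G} (ho : o ∈ O) (h8 : o ^ 8 = 1) : o = 1 := by
  have h1 : orderOf o ∣ Nat.card O := Subgroup.orderOf_dvd_natCard _ ho
  have h2 : orderOf o ∣ 2 ^ 3 := orderOf_dvd_of_pow_eq_one h8
  exact orderOf_eq_one_iff.1 (Nat.eq_one_of_dvd_coprimes
    (Nat.Coprime.pow_left 3 (Nat.coprime_two_left.2 hodd)) h2 h1)

include hgood hN hCd D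

theorem SixD.cent_s36 : ∀ g, Commute g (F.φ (rot 36)) → g ∈ M := by
  classical
  obtain ⟨⟨a, ha, haq⟩, h3624, -, h324, h1224, h630, -, h6q, he0⟩ := top_facts
  obtain ⟨hs36, h224, h212, h22, h22436, h32, ⟨nu, hnu⟩, ⟨nt, hnt⟩, h336, -, -, -, h636, hq36, h2121, h2242⟩ := s_facts
  set x := F.φ rt3 with hx
  set s := F.φ (rot 36) with hs
  set r2 := F.φ (rot 2) with hr2
  have hx2 : x * x = 1 := rt3_sq
  have hs2 : s * s = 1 := F.φ_sq (by decide +kernel)
  have hsx : s * x = F.φ (rot 12) := by rw [hs, hx, ← map_mul, h3624]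
  have hxs : Commute x s := F.φ_comm.2 (by decide +kernel)
  have hr2sq : r2 * r2 = 1 := F.φ_sq h22
  have hr2i : r2⁻¹ = r2 := inv_eq_of_mul_eq_one_right hr2sq
  have hr2d1 : r2 * F.φ (rot 12) * r2⁻¹ = x := F.φ_conj_eq h212
  have hr2s : Commute r2 s := F.φ_comm.2 (by decide +kernel)
  have hd2M : r2 ∈ M := hN (F.φ_mem _)
  obtain ⟨H, hH⟩ : ∃ H, H = Subgroup.centralizer ({s} : Set G) := ⟨_, rfl⟩
  have hmemH : ∀ g, g ∈ H ↔ Commute g s := fun g => by rw [hH, Subgroup.mem_centralizer_singleton_iff]; rfl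
  have hWmem : ∀ z ∈ Subgroup.zpowers s, z = 1 ∨ z = s := fun z hz => by
    obtain ⟨i, rfl⟩ := Subgroup.mem_zpowers_iff.mp hz
    rw [← Int.emod_add_mul_ediv i 2, zpow_add, zpow_mul, zpow_two, hs2, one_zpow, mul_one]
    rcases Int.emod_two_eq_zero_or_one i with e | e <;> rw [e] <;> simp
  obtain ⟨hcl24, -⟩ := F.classes hgood
  obtain ⟨O, hOH, hodd, hOn, hOg⟩ := isolated_mod H (Subgroup.zpowers s)
    (Subgroup.zpowers_le.2 ((hmemH s).2 (Commute.refl s)))
    (fun z => ⟨1, Subtype.ext (by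
      rcases hWmem z z.2 with e | e <;> rw [Subgroup.coe_pow, e, pow_one, pow_two] <;> simp [hs2])⟩)
    (fun z hz g hg => by
      rcases hWmem z hz with rfl | rfl
      · exact Commute.one_right _
      · exact (hmemH g).1 hg)
    (x := x) ((hmemH x).2 hxs) hx2
    (fun h => by
      rcases hWmem x h with e | e
      · exact F.φ_ne_one (by decide) e
      · exact absurd (F.φ_inj e) (by decide))
    (by
      intro g hg hW
      obtain ⟨w', hw'⟩ : ∃ w', w' = g * x * g⁻¹ := ⟨_, rfl⟩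
      rw [← hw'] at hW ⊢
      have hcw : F.Cls 24 w' := ⟨g, hw'.symm⟩
      have hws : Commute w' s := by
        rw [hw']
        have := hxs.conj g
        rwa [((hmemH g).1 hg).eq, mul_inv_cancel_right] at this
      have hw2 : w' * w' = 1 := by rw [hw', conj_mul, hx2, mul_one, mul_inv_cancel]
      rcases hWmem _ hW with e | e
      · -- commuting conjugates
        have hc : Commute w' x := by
          rw [mul_inv_eq_one, mul_inv_eq_iff_eq_mul] at e; exact e
        rcases D.d_type hgood hc hcw with e' | ⟨k, e'⟩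
        · rw [e', inv_mul_cancel]; exact one_mem _
        have hsw : F.Cls 24 (s * w') := by
          have h12 : F.Cls 24 (F.φ (rot 12)) := by
            rw [← D.p1, ← (show (cW * swap 0 1 * cW⁻¹) = swap (3 : Fin 6) 4 by decide +kernel)]
            exact D.cls_transp cW
          have := F.cls_conj h12 g
          rwa [← hsx, ← conj_mul, ((hmemH g).1 hg).eq, mul_inv_cancel_right, ← hw'] at this
        have hsw' : s * w' = D.Φ (swap 3 4 * (k * swap 0 1 * k⁻¹)) * x := by
          rw [map_mul D.Φ (swap 3 4), D.p1, ← e', mul_assoc, hc.eq, ← mul_assoc, hs, hx, ← map_mul, h1224]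
        rcases D.d_type hgood ((hxs.symm).mul_left hc) hsw with e2 | ⟨k', e2⟩
        · rw [hsw', mul_eq_right, ← map_one D.Φ] at e2
          have : k * swap 0 1 * k⁻¹ = swap 3 4 := by
            rw [eq_inv_of_mul_eq_one_right (D.inj e2), swap_inv]
          rw [e', this, D.p1, inv_eq_of_mul_eq_one_right hx2, hx, ← map_mul,
            (by decide +kernel : rot 24 * rot 12 = rot 36), ← hs]
          exact Subgroup.mem_zpowers _
        · exfalso
          refine D.sep ((swap 3 4 * (k * swap 0 1 * k⁻¹))⁻¹ * (k' * swap 0 1 * k'⁻¹)) ?_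
          rw [map_mul, map_inv, ← e2, hsw', inv_mul_cancel_left, hx]
      · -- an element exchanging two sign changes
        exfalso
        have e12 : w' * x * w'⁻¹ = F.φ (rot 12) := by rw [← hsx, ← e, inv_mul_cancel_right]
        obtain ⟨c, hc⟩ : ∃ c, c = r2 * w' := ⟨_, rfl⟩
        have hcx : Commute c x := mul_inv_eq_iff_eq_mul.1 (by
          rw [hc, show r2 * w' * x * (r2 * w')⁻¹ = r2 * (w' * x * w'⁻¹) * r2⁻¹ by group, e12, hr2d1])
        have hc12 : Commute c (F.φ (rot 12)) := hsx ▸ ((hc ▸ hr2s.mul_left hws : Commute c s)).mul_right hcx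
        obtain ⟨y, hy⟩ := D.split c hcx
        have hy34 : y * swap 3 4 = swap 3 4 * y := by
          refine D.inj ?_
          rw [map_mul, map_mul, D.p1]
          rcases hy with e' | e'
          · exact (e' ▸ hc12).eq
          · have hxd : Commute x (F.φ (rot 12)) := F.φ_comm.2 (by decide +kernel)
            have : Commute (c * x) (F.φ (rot 12)) := hc12.mul_left hxd
            rw [e', mul_assoc, hx2, mul_one] at this
            exact this.eq
        obtain ⟨σ, h3, h4, hyσ⟩ := six_fix_facts.1 y hy34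
        have hσ2 := D.phi_two_comm hgood h3 h4
        obtain ⟨q, hq, hcq⟩ : ∃ q ∈ ([0, 24, 12, 36] : List (Fin 48)), c = D.Φ σ * F.φ (rot q) := by
          rcases hy with e' | e' <;> rcases hyσ with rfl | rfl
          · exact ⟨0, by simp, by rw [e', show rot 0 = (1 : Mon) from rfl, map_one, mul_one]⟩
          · exact ⟨12, by simp, by rw [e', map_mul, D.p1]⟩
          · exact ⟨24, by simp, e'⟩
          · exact ⟨36, by simp, by
              rw [e', map_mul, D.p1, mul_assoc, ← map_mul]; exact congrArg _ (congrArg F.φ h1224)⟩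
        have hw'' : w' = r2 * F.φ (rot q) * D.Φ σ := by
          have hqσ : Commute (D.Φ σ) (F.φ (rot q)) := by
            have h12' : Commute (D.Φ σ) (F.φ (rot 12)) := by
              have hsw : σ * swap 3 4 = swap 3 4 * σ := by
                rw [Equiv.mul_swap_eq_swap_mul, h3, h4]
              rw [← D.p1]; exact (show Commute σ (swap 3 4) from hsw).map D.Φ
            simp only [List.mem_cons, List.not_mem_nil, or_false] at hq
            rcases hq with rfl | rfl | rfl | rfl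
            · rw [show rot 0 = (1 : Mon) from rfl, map_one]; exact Commute.one_right _
            · exact D.comm σ
            · exact h12'
            · rw [← h1224, map_mul]; exact h12'.mul_right (D.comm σ)
          rw [mul_assoc, ← hqσ.eq, ← hcq, hc, ← mul_assoc, hr2sq, one_mul]
        have hσq : Commute (r2 * F.φ (rot q)) (D.Φ σ) := by
          refine hσ2.mul_left ?_
          have h12' : Commute (F.φ (rot 12)) (D.Φ σ) := by
            have hsw : σ * swap 3 4 = swap 3 4 * σ := by rw [Equiv.mul_swap_eq_swap_mul, h3, h4]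
            rw [← D.p1]; exact ((show Commute σ (swap 3 4) from hsw).map D.Φ).symm
          simp only [List.mem_cons, List.not_mem_nil, or_false] at hq
          rcases hq with rfl | rfl | rfl | rfl
          · rw [show rot 0 = (1 : Mon) from rfl, map_one]; exact Commute.one_left _
          · exact (D.comm σ).symm
          · exact h12'
          · rw [← h1224, map_mul]; exact h12'.mul_left (D.comm σ).symm
        have hsq : r2 * F.φ (rot q) * (r2 * F.φ (rot q)) * D.Φ (σ * σ) = 1 := by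
          rw [map_mul, ← hw2, hw'']
          exact hσq.mul_mul_mul_comm _ _
        -- reduce to the exchange alone
        obtain ⟨hcls2, hσσ⟩ : F.Cls 24 (r2 * D.Φ σ) ∧ σ * σ = 1 := by
          have bad : r2 * F.φ (rot q) * (r2 * F.φ (rot q)) = s → False := fun h => by
            refine D.sep ((σ * σ)⁻¹ * swap 3 4) ?_
            rw [h] at hsq
            have : D.Φ (σ * σ) = s := by
              rw [eq_inv_of_mul_eq_one_right hsq, inv_eq_of_mul_eq_one_right hs2]
            rw [map_mul, map_inv, this, D.p1, inv_eq_of_mul_eq_one_right hs2, hs, ← map_mul]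
            exact congrArg F.φ (by decide +kernel)
          have good : r2 * F.φ (rot q) * (r2 * F.φ (rot q)) = 1 → σ * σ = 1 := fun h => by
            rw [h, one_mul, ← map_one D.Φ] at hsq; exact D.inj hsq
          simp only [List.mem_cons, List.not_mem_nil, or_false] at hq
          rcases hq with rfl | rfl | rfl | rfl
          · refine ⟨?_, good ?_⟩
            · have := hcw
              rwa [hw'', show rot 0 = (1 : Mon) from rfl, map_one, mul_one] at this
            · rw [show rot 0 = (1 : Mon) from rfl, map_one, mul_one, hr2sq]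
          · exact (bad (by rw [hr2, ← map_mul, ← map_mul, h2242])).elim
          · exact (bad (by rw [hr2, ← map_mul, ← map_mul, h2121])).elim
          · refine ⟨?_, good ?_⟩
            · have h := F.cls_conj hcw x
              rw [hw'', show x * (r2 * F.φ (rot 36) * D.Φ σ) * x⁻¹ = x * (r2 * F.φ (rot 36)) * (D.Φ σ * x⁻¹) by group,
                (D.comm σ).inv_right.eq, ← mul_assoc, inv_eq_of_mul_eq_one_right hx2] at h
              have e1 : x * (r2 * F.φ (rot 36)) * x = r2 := by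
                rw [hx, hr2, ← map_mul, ← map_mul, h22436, map_mul, mul_assoc]
                show F.φ (rot 2) * (F.φ rt3 * F.φ rt3) = _
                rw [rt3_sq, mul_one]
              rwa [e1] at h
            · rw [hr2, ← map_mul, ← map_mul, ← map_one F.φ]; exact congrArg F.φ (by decide +kernel)
        rcases six_fix_facts.2.2.1 σ h3 h4 hσσ with rfl | ⟨k, hk3, hk4, hkσ⟩
        · rw [map_one, mul_one] at hcls2
          refine hcl24 1 (by simp) ?_
          rw [← F.φ_conj_eq hnt]; exact F.cls_conj hcls2 _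
        have hkc := D.phi_two_comm hgood hk3 hk4
        have hk' : F.Cls 24 (r2 * D.Φ (k * σ * k⁻¹)) := by
          have h := F.cls_conj hcls2 (D.Φ k)
          rwa [show D.Φ k * (r2 * D.Φ σ) * (D.Φ k)⁻¹ = D.Φ k * r2 * D.Φ σ * (D.Φ k)⁻¹ by group, ← hkc.eq,
            mul_assoc r2, mul_assoc r2, ← map_inv, ← map_mul, ← map_mul] at h
        rcases hkσ with e' | e' <;> rw [e'] at hk'
        · refine hcl24 25 (by simp) ?_
          rw [D.p0, hr2, ← map_mul] at hk'
          rw [← F.φ_conj_eq hnu]; exact F.cls_conj hk' _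
        · -- move to the last block
          obtain ⟨e24, e6, -⟩ := refl_mon
          have h := F.cls_conj hk' (F.φ (rot 3))
          rw [map_mul, D.p0, show F.φ (rot 3) * (r2 * (F.φ (rot 6) * D.Φ (swap 2 5))) * (F.φ (rot 3))⁻¹ =
            (F.φ (rot 3) * r2 * (F.φ (rot 3))⁻¹) * ((F.φ (rot 3) * F.φ (rot 6) * (F.φ (rot 3))⁻¹) *
              (F.φ (rot 3) * D.Φ (swap 2 5) * (F.φ (rot 3))⁻¹)) by group, hr2, F.φ_conj_eq h32, F.φ_conj_eq e6,
            show F.φ (rot 3) * D.Φ (swap 2 5) * (F.φ (rot 3))⁻¹ = D.Φ (swap 2 5) from D.wl_perm hgood] at h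
          obtain ⟨z, hz⟩ : ∃ z, z = F.φ (rot 1) * (F.φ (rot 24) * D.Φ (swap 2 5)) := ⟨_, rfl⟩
          rw [← hz] at h
          have hzc : Commute z x := hz ▸ (F.φ_comm.2 (by decide +kernel)).mul_left
            ((Commute.refl x).mul_left (D.comm _))
          rcases D.d_type hgood hzc h with e2 | ⟨k', e2⟩
          · refine hcl24 1 (by simp) ?_
            have ht : F.φ (rot 1) = D.Φ (swap 2 5) := by
              rw [hz, ← (D.comm _).eq, ← mul_assoc] at e2
              have h' : F.φ (rot 1) * D.Φ (swap 2 5) = 1 := by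
                rw [← mul_eq_right (b := x)]; exact e2
              rw [eq_inv_of_mul_eq_one_left h', ← map_inv, swap_inv]
            obtain ⟨k, hk⟩ := transp_facts.2
            rw [ht, ← hk]; exact D.cls_transp k
          · rcases D.w with hw | hw
            · refine D.sep ((cW * swap 2 5)⁻¹ * (k' * swap 0 1 * k'⁻¹)) ?_
              rw [map_mul, map_inv, ← e2, hz, ← (D.comm _).eq, map_mul, hw]
              group
            · refine six_misc.2.2.2.2.1 k' |>.1 (D.inj ?_)
              rw [← e2, hz, ← six_misc.2.1, map_mul, hw, ← mul_assoc, ← map_mul]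
              exact congrArg (fun g => g * D.Φ (swap 2 5)) (congrArg F.φ (by decide +kernel)))
  -- the sign changes of the first block invert the odd part
  have hfix6 : ∀ o ∈ O, Commute o (F.φ (rot 6)) → o = 1 := by
    intro o ho hc
    have hn : Commute (F.φ (rot 3) * o * (F.φ (rot 3))⁻¹) x := by
      rw [hx, show rt3 = rot 24 from rfl, ← F.φ_conj_eq refl_mon.2.1]; exact hc.conj _
    have hn18 : Commute (F.φ (rot 3) * o * (F.φ (rot 3))⁻¹) (D.Φ (swap 0 1 * swap 3 4)) := by
      rw [map_mul, D.p0, D.p1, ← map_mul, centD_gens.2.2.2.2.1, ← F.φ_conj_eq h336]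
      exact ((hmemH o).1 (hOH ho)).conj _
    obtain ⟨y, hy⟩ := D.split _ hn
    have hyc : y * (swap 0 1 * swap 3 4) = swap 0 1 * swap 3 4 * y := D.inj (by
      rw [map_mul D.Φ y, map_mul D.Φ _ y]
      rcases hy with e | e
      · exact (e ▸ hn18).eq
      · have := hn18.mul_left (show Commute x (D.Φ (swap 0 1 * swap 3 4)) from (D.comm _).symm)
        rw [e, mul_assoc, hx2, mul_one] at this
        exact this.eq)
    have h8 : y ^ 8 = 1 := by
      rw [show (8 : ℕ) = 2 + 2 + (2 + 2) from rfl, pow_add, pow_add, pow_two]; exact six_fix_facts.2.2.2.2 y hyc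
    refine odd_pow_eight hodd ho ?_
    have : (F.φ (rot 3) * o * (F.φ (rot 3))⁻¹) ^ 8 = 1 := by
      rcases hy with e | e <;> rw [e]
      · rw [← map_pow, h8, map_one]
      · rw [(D.comm y).mul_pow, ← map_pow, h8, map_one, one_mul, show (8 : ℕ) = 2 * 4 from rfl, pow_mul, pow_two,
          rt3_sq, one_pow]
    rwa [conj_pow, conj_eq_one_iff] at this
  have haH : F.φ (tr a) ∈ H := (hmemH _).2 (F.φ_comm_j.2 ha).symm
  have hqdef : F.φ (tr a) * F.φ (rot 6) * (F.φ (tr a))⁻¹ = F.φ (rot 6 * tr u0) := F.φ_conj_eq haq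
  have h6H : F.φ (rot 6) ∈ H := (hmemH _).2 (F.φ_comm.2 h636)
  have hi6 : F.φ (rot 6) * F.φ (rot 6) = 1 := F.φ_sq (by decide +kernel)
  have inv6 : ∀ o ∈ O, F.φ (rot 6) * o * F.φ (rot 6) = o⁻¹ :=
    inverts_of_fixfree hi6 O (fun o ho => by
      have := hOn _ h6H o ho
      rwa [inv_eq_of_mul_eq_one_right hi6] at this) hfix6
  have hOM : O ≤ M := by
    intro o ho
    refine hN (good_e hgood he0 o ?_)
    show o * F.φ (tr u0) = F.φ (tr u0) * o
    have ho' : (F.φ (tr a))⁻¹ * o * F.φ (tr a) ∈ O := by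
      have := hOn _ (inv_mem haH) o ho
      rwa [inv_inv] at this
    have hq : F.φ (rot 6 * tr u0) * o * (F.φ (rot 6 * tr u0))⁻¹ = o⁻¹ := by
      rw [← hqdef]
      calc F.φ (tr a) * F.φ (rot 6) * (F.φ (tr a))⁻¹ * o * (F.φ (tr a) * F.φ (rot 6) * (F.φ (tr a))⁻¹)⁻¹
          = F.φ (tr a) * (F.φ (rot 6) * ((F.φ (tr a))⁻¹ * o * F.φ (tr a)) * (F.φ (rot 6))⁻¹) * (F.φ (tr a))⁻¹ := by
            group
        _ = o⁻¹ := by rw [inv_eq_of_mul_eq_one_right hi6, inv6 _ ho']; group
    have he : F.φ (tr u0) * o * (F.φ (tr u0))⁻¹ = o := by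
      rw [← h6q, map_mul, show F.φ (rot 6) * F.φ (rot 6 * tr u0) * o * (F.φ (rot 6) * F.φ (rot 6 * tr u0))⁻¹ =
        F.φ (rot 6) * (F.φ (rot 6 * tr u0) * o * (F.φ (rot 6 * tr u0))⁻¹) * (F.φ (rot 6))⁻¹ by group, hq,
        inv_eq_of_mul_eq_one_right hi6, inv6 _ (inv_mem ho), inv_inv]
    exact (mul_inv_eq_iff_eq_mul.1 he).symm
  intro g hg
  obtain ⟨o, ho, hog⟩ := hOg g ((hmemH g).2 hg)
  have hmem : o * g ∈ M := by
    rcases hWmem _ hog with e | e
    · exact hCd _ (mul_inv_eq_iff_eq_mul.1 (inv_mul_eq_one.1 e).symm)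
    · have e' : o * g * x * (o * g)⁻¹ = F.φ (rot 12) := by
        rw [← hsx, ← hxs.eq, ← e, mul_inv_cancel_left]
      have hm : r2 * (o * g) ∈ M := hCd _ (mul_inv_eq_iff_eq_mul.1 (by
        rw [show r2 * (o * g) * x * (r2 * (o * g))⁻¹ = r2 * (o * g * x * (o * g)⁻¹) * r2⁻¹ by group, e', hr2d1]))
      have := mul_mem (inv_mem hd2M) hm
      rwa [inv_mul_cancel_left] at this
  have := mul_mem (inv_mem (hOM ho)) hmem
  rwa [inv_mul_cancel_left] at this

theorem SixD.cent_u : ∀ g, Commute g (F.φ (rot 25)) → g ∈ M := by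
  classical
  obtain ⟨-, -, h2524, -, -, h630, h241, -, -⟩ := top_facts
  obtain ⟨-, -, -, -, -, -, -, -, -, -, ⟨n36, hn36⟩, -⟩ := s_facts
  set x := F.φ rt3 with hx
  set u := F.φ (rot 25) with hu
  have hx2 : x * x = 1 := rt3_sq
  have hxu : Commute x u := F.φ_comm.2 (by decide +kernel)
  obtain ⟨H, hH⟩ : ∃ H, H = Subgroup.centralizer ({u} : Set G) := ⟨_, rfl⟩
  have hmemH : ∀ g, g ∈ H ↔ Commute g u := fun g => by rw [hH, Subgroup.mem_centralizer_singleton_iff]; rfl
  have hcWu : ∀ y : Perm (Fin 6), cW * y = y * cW → Commute (D.Φ y) u := fun y hy => by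
    rcases D.w with hw | hw
    · rw [hu, ← h241, map_mul, ← hw]
      exact (D.comm y).mul_right (((show Commute cW y from hy).map D.Φ).symm)
    · rw [hu, ← hw]; exact (((show Commute cW y from hy).map D.Φ)).symm
  obtain ⟨O, hOH, hodd, hOn, hOg⟩ := isolated_mod H ⊥ bot_le (IsPGroup.of_bot)
    (fun z hz g _ => by rw [Subgroup.mem_bot.1 hz]; exact Commute.one_right _)
    (x := x) ((hmemH x).2 hxu) hx2 (fun h => F.φ_ne_one (by decide) (Subgroup.mem_bot.1 h))
    (by
      intro g hg hW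
      have hc := Subgroup.mem_bot.1 hW
      obtain ⟨w', hw'⟩ : ∃ w', w' = g * x * g⁻¹ := ⟨_, rfl⟩
      rw [← hw'] at hc ⊢
      have hcx : Commute w' x := by rw [mul_inv_eq_one, mul_inv_eq_iff_eq_mul] at hc; exact hc
      rcases D.d_type hgood hcx ⟨g, hw'.symm⟩ with e | ⟨k, e⟩
      · rw [e, inv_mul_cancel]; exact one_mem _
      exfalso
      have hcls : F.Cls 1 (u * w') := ⟨g, by
        rw [← h2524, map_mul, ← conj_mul, ← hu, show g * u * g⁻¹ = u from by
          rw [((hmemH g).1 hg).eq, mul_inv_cancel_right], hw']⟩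
      obtain ⟨j, hj⟩ := D.t_type hgood (hxu.symm.mul_left hcx) hcls
      rw [e] at hj
      have hju : D.Φ j * x * (D.Φ j)⁻¹ = x := by rw [(D.comm j).eq, mul_inv_cancel_right]
      rcases D.w with hw | hw
      · have hu' : u = D.Φ cW * x := by
          rw [hu, hw, hx, ← map_mul]; exact congrArg F.φ centD_gens.2.2.2.2.2.2.1.symm
        refine D.sep ((j * (cW * (k * swap 0 1 * k⁻¹)) * j⁻¹)⁻¹ * cW) ?_
        have e1 : u * D.Φ (k * swap 0 1 * k⁻¹) = D.Φ (cW * (k * swap 0 1 * k⁻¹)) * x := by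
          rw [hu', map_mul D.Φ cW, mul_assoc (D.Φ cW) x, ← (D.comm _).eq, ← mul_assoc]
        rw [e1, ← conj_mul, hju, ← map_inv, ← map_mul, ← map_mul] at hj
        rw [map_mul D.Φ (_⁻¹), map_inv, hw, ← hj, inv_mul_cancel_left]
      · refine D.sep ((cW)⁻¹ * (j * (cW * (k * swap 0 1 * k⁻¹)) * j⁻¹)) ?_
        rw [hu, ← hw, ← map_mul, ← map_inv, ← map_mul, ← map_mul] at hj
        rw [map_mul D.Φ cW⁻¹, map_inv, hj, hw, ← map_inv, ← map_mul]
        exact congrArg F.φ (by decide +kernel))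
  -- a four group acting on the odd part
  obtain ⟨k3, hk3⟩ := six_misc.2.2.2.2.2.1
  have hτu : Commute (D.Φ (swap 0 3)) u := hcWu _ six_misc.2.2.2.1
  have hτ2 : D.Φ (swap 0 3) * D.Φ (swap 0 3) = 1 := by rw [← map_mul, swap_mul_self, map_one]
  have hkM : D.Φ k3 ∈ M := hCd _ (D.comm k3)
  have hC6 : ∀ g, Commute g (F.φ (rot 6)) → g ∈ M := by
    rw [← F.φ_conj_eq top_facts.2.2.2.1]
    exact cent_conj (hN (F.φ_mem _)) hCd
  have hC30 : ∀ g, Commute g (F.φ (rot 30)) → g ∈ M := by
    rw [← F.φ_conj_eq hn36]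
    exact cent_conj (hN (F.φ_mem _)) (D.cent_s36 hgood hN hCd)
  have hτeq : D.Φ (swap 0 3) = D.Φ k3 * F.φ (rot 6) * (D.Φ k3)⁻¹ := by rw [← hk3, map_mul, map_mul, map_inv, D.p0]
  have hOM : O ≤ M := by
    refine odd_le_of_four hx2 hτ2 (D.comm _).symm (F.φ_ne_one (by decide))
      (fun e => by rw [← map_one D.Φ] at e; exact absurd (D.inj e) (by decide)) (fun e => D.sep _ e.symm) O M hodd
      (fun o ho => by
        have := hOn x ((hmemH x).2 hxu) o ho
        rwa [inv_eq_of_mul_eq_one_right hx2] at this)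
      (fun o ho => by
        have := hOn _ ((hmemH _).2 hτu) o ho
        rwa [inv_eq_of_mul_eq_one_right hτ2] at this)
      fun o _ ho => ?_
    rcases ho with h | h | h
    · exact hCd o h
    · exact cent_conj hkM hC6 o (hτeq ▸ h)
    · refine cent_conj hkM hC30 o ?_
      rw [← h630, map_mul, ← conj_mul, ← hτeq, show D.Φ k3 * F.φ (rot 24) * (D.Φ k3)⁻¹ = x by
        show D.Φ k3 * F.φ rt3 * _ = _
        rw [(D.comm k3).eq, mul_inv_cancel_right], (D.comm _).eq]
      exact h
  intro g hg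
  obtain ⟨o, ho, hog⟩ := hOg g ((hmemH g).2 hg)
  have hmem : o * g ∈ M := hCd _ (mul_inv_eq_iff_eq_mul.1 (inv_mul_eq_one.1 (Subgroup.mem_bot.1 hog)).symm)
  have := mul_mem (inv_mem (hOM ho)) hmem
  rwa [inv_mul_cancel_left] at this

/-- The image is the whole group. -/
theorem SixD.eq_top : M = ⊤ := by
  obtain ⟨-, -, -, -, -, h630, h241, -, he0⟩ := top_facts
  obtain ⟨-, -, -, -, -, -, -, -, -, -, ⟨n36, hn36⟩, -⟩ := s_facts
  have hx2 : F.φ rt3 * F.φ rt3 = 1 := rt3_sq
  have ht2 : F.φ (rot 1) * F.φ (rot 1) = 1 := F.φ_sq (by decide +kernel)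
  have hC30 : ∀ g, Commute g (F.φ (rot 30)) → g ∈ M := by
    rw [← F.φ_conj_eq hn36]
    exact cent_conj (hN (F.φ_mem _)) (D.cent_s36 hgood hN hCd)
  have hkM : ∀ k, D.Φ k ∈ M := fun k => hCd _ (D.comm k)
  have hconj : ∀ g, g * F.φ (rot 1) * g⁻¹ ∈ M := by
    intro g
    refine conj_mem_of_dihedral ⊤ M (x := F.φ rt3) (Subgroup.mem_top _) hx2 (Subgroup.mem_top _) ht2
      (fun h _ hc => hCd h hc) (fun h _ e => (F.classes hgood).1 1 (by simp) ⟨h, e⟩) ?_ g (Subgroup.mem_top g)
    intro z _ _ _ hz1 hzx ⟨h, _, he⟩ h' _ hh'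
    obtain ⟨w', hw'⟩ : ∃ w', w' = F.φ rt3 * z := ⟨_, rfl⟩
    have hwc : Commute w' (F.φ rt3) := hw' ▸ (Commute.refl _).mul_left hzx
    have hzw : z = F.φ rt3 * w' := by rw [hw', ← mul_assoc, hx2, one_mul]
    rw [hzw] at hh'
    rcases he with he | he
    · rcases D.d_type hgood hwc ⟨h, he.trans hw'.symm⟩ with e | ⟨k, e⟩
      · exact absurd (by rw [hzw, e, hx2]) hz1
      · refine cent_conj (hkM k) hC30 h' ?_
        rw [← h630, map_mul, ← conj_mul, show D.Φ k * F.φ (rot 24) * (D.Φ k)⁻¹ = F.φ rt3 by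
          show D.Φ k * F.φ rt3 * _ = _
          rw [(D.comm k).eq, mul_inv_cancel_right],
          show D.Φ k * F.φ (rot 6) * (D.Φ k)⁻¹ = w' by rw [e, map_mul, map_mul, map_inv, D.p0], hwc.eq]
        exact hh'
    · obtain ⟨k, e⟩ := D.t_type hgood hwc ⟨h, he.trans hw'.symm⟩
      refine cent_conj (inv_mem (hkM k)) (D.cent_u hgood hN hCd) h' ?_
      rw [inv_inv, ← h241, map_mul, ← e, show (D.Φ k)⁻¹ * (F.φ (rot 24) * (D.Φ k * w' * (D.Φ k)⁻¹)) * D.Φ k =
        (D.Φ k)⁻¹ * F.φ rt3 * D.Φ k * w' by group, ((D.comm k).inv_left).eq, inv_mul_cancel_right]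
      exact hh'
  rw [eq_top_iff]
  refine le_of_class_closure ⊤ M (y := F.φ (rot 1)) (k := F.j u0) (fun g _ => hconj g) ?_ fun g _ hg => ?_
  · obtain ⟨K, hK⟩ : ∃ K, K = Subgroup.closure {w | ∃ g ∈ (⊤ : Subgroup G), g * F.φ (rot 1) * g⁻¹ = w} := ⟨_, rfl⟩
    have hpair : ∀ k k' : Perm (Fin 6), D.Φ ((k * cW * k⁻¹) * (k' * cW * k'⁻¹)) ∈ K := by
      intro k k'
      have hin : ∀ g, g * F.φ (rot 1) * g⁻¹ ∈ K := fun g => hK ▸ Subgroup.subset_closure ⟨g, Subgroup.mem_top _, rfl⟩
      have key : D.Φ ((k * cW * k⁻¹) * (k' * cW * k'⁻¹)) =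
          (D.Φ k * F.φ (rot 1) * (D.Φ k)⁻¹) * (D.Φ k' * F.φ (rot 1) * (D.Φ k')⁻¹) := by
        simp only [map_mul, map_inv]
        rcases D.w with hw | hw
        · rw [hw]
        · have hc : ∀ y, D.Φ y * D.Φ cW * (D.Φ y)⁻¹ = F.φ rt3 * (D.Φ y * F.φ (rot 1) * (D.Φ y)⁻¹) := fun y => by
            rw [hw, ← h241, map_mul, show D.Φ y * (F.φ (rot 24) * F.φ (rot 1)) * (D.Φ y)⁻¹ =
              D.Φ y * F.φ rt3 * (F.φ (rot 1) * (D.Φ y)⁻¹) by group, (D.comm y).eq]
            group
          have hcx : Commute (D.Φ k * F.φ (rot 1) * (D.Φ k)⁻¹) (F.φ rt3) :=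
            ((D.comm k).mul_left (F.φ_comm.2 (by decide +kernel))).mul_left (D.comm k).inv_left
          rw [hc k, hc k', mul_assoc (F.φ rt3), ← mul_assoc _ (F.φ rt3) (D.Φ k' * _ * _), hcx.eq]
          simp only [← mul_assoc, rt3_sq, one_mul]
      rw [key]
      exact mul_mem (hin _) (hin _)
    rw [← hK, ← D.a0, ← six_misc.2.2.2.2.2.2.2.1, map_mul]
    refine mul_mem ?_ (hpair _ _)
    have := hpair 1 (swap 3 4)
    rwa [one_mul, inv_one, mul_one] at this
  · have hM : ∀ g, Commute g (F.j ev) → g ∈ M := fun g hg => hN (hgood g hg.eq)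
    obtain ⟨r, hr⟩ := (three_types.2.2.1 u0 he0).1
    have := F.strong_e hN hM (g := g * F.φ (rot r)) (by
      rw [show g * F.φ (rot r) * F.j ev * (g * F.φ (rot r))⁻¹ = g * (F.φ (rot r) * F.j ev * (F.φ (rot r))⁻¹) * g⁻¹ by group,
        F.φ_conj_j, hr]
      exact hg)
    have := mul_mem this (inv_mem (hN (F.φ_mem (rot r))))
    rwa [mul_inv_cancel_right] at this

omit hN hCd in
/-- The group is the Weyl group. -/
theorem SixD.exists_iso : Nonempty (CoxeterMatrix.E₆.Group ≃* G) := by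
  classical
  obtain ⟨ρ, hN, hCd⟩ := D.exists_big hgood
  have htop := D.eq_top hgood hN hCd
  have hsurj : Function.Surjective ρ := MonoidHom.range_eq_top.1 htop
  have hE := Cfsg.Agent.S1093.result (⟨6, CoxeterMatrix.E₆⟩, 51840) (by simp)
  change Nat.card CoxeterMatrix.E₆.Group = 51840 at hE
  obtain ⟨hinj, hconj, horb, hsigns⟩ := ref_count
  obtain ⟨hc, w0, w1, w2, n0, n1, n2⟩ := D.wl_props
  have hwN : D.wl ∉ F.N := by
    intro h
    obtain ⟨m, hm⟩ := F.mem_N3.1 h
    obtain ⟨hw2, hw1⟩ := cls_invol (F := F) ⟨by decide +kernel, by decide⟩ hc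
    obtain ⟨r, hr, rfl⟩ := hsigns m (F.φ_comm.1 (hm ▸ w0)) (F.φ_comm.1 (hm ▸ w1)) (F.φ_comm.1 (hm ▸ w2))
      (F.φ_inj (by rw [map_mul, hm, hw2, map_one])) (fun e => hw1 (by rw [← hm, e, map_one]))
    obtain ⟨n36, hn36⟩ := s_facts.2.2.2.2.2.2.2.2.2.2.1
    simp only [List.mem_cons, List.not_mem_nil, or_false] at hr
    rcases hr with rfl | rfl | rfl | rfl | rfl | rfl | rfl
    · exact n0 hm.symm
    · exact n1 hm.symm
    · exact n2 hm.symm
    · exact (F.classes hgood).1 18 (by simp) (hm ▸ hc)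
    · exact (F.classes hgood).1 30 (by simp) (hm ▸ hc)
    · exact (F.classes hgood).1 30 (by simp) (F.φ_conj_eq hn36 ▸ F.cls_conj (hm ▸ hc) _)
    · exact (F.classes hgood).1 42 (by simp) (hm ▸ hc)
  have hwj : ∀ v, v ≠ 0 → ¬ Commute D.wl (F.j v) := by
    intro v hv h
    obtain ⟨r, hr, s, hs, e⟩ := horb v hv
    have hsc : Commute D.wl (F.φ (rot s)) := by
      simp only [List.mem_cons, List.not_mem_nil, or_false] at hs
      rcases hs with rfl | rfl | rfl
      exacts [w0, w1, w2]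
    have hrc : Commute (F.φ (rot r)) D.wl := by
      simp only [List.mem_cons, List.not_mem_nil, or_false] at hr
      rcases hr with rfl | rfl | rfl
      exacts [by rw [show rot 0 = (1 : Mon) from rfl, map_one]; exact Commute.one_left _, D.wl_t.symm, D.wl_three hgood]
    have h1 : Commute D.wl (F.j (act s v)) := by
      rw [← F.φ_conj_j (rot s)]
      exact (hsc.mul_right h).mul_right hsc.inv_right
    have h2 : Commute D.wl (F.j (v - act s v)) := by
      rw [sub_eq_add_neg, F.j_add, F.j_neg]; exact h.mul_right h1.inv_right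
    have h3 : Commute D.wl (F.j (act r (v - act s v))) := by
      rw [← F.φ_conj_j (rot r)]
      exact (hrc.symm.mul_right h2).mul_right hrc.symm.inv_right
    have h4 : Commute D.wl (F.j u0) := by
      rcases e with e | e <;> rw [e] at h3
      · exact h3
      · rw [F.j_neg] at h3; exact Commute.inv_right_iff.1 h3
    rw [← D.a0] at h4
    exact six_misc.2.2.2.2.2.2.1 (D.inj (by rw [map_mul, map_mul]; exact h4.eq))
  -- the conjugates of the sign change
  let f : V3 ⊕ (Fin 3 × ZMod 3) → G := fun p => p.elim (fun v => F.j v * D.wl * (F.j v)⁻¹) (fun q => F.φ (mref q))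
  have hfinj : Function.Injective f := by
    have hnot : ∀ (v : V3) (q : Fin 3 × ZMod 3), F.j v * D.wl * (F.j v)⁻¹ ≠ F.φ (mref q) := fun v q e => hwN (by
      rw [show D.wl = (F.j v)⁻¹ * (F.j v * D.wl * (F.j v)⁻¹) * F.j v by group, e]
      exact mul_mem (mul_mem (inv_mem (Subgroup.le_normalizer (F.j_mem v))) (F.φ_mem _))
        (Subgroup.le_normalizer (F.j_mem v)))
    rintro (v | q) (v' | q') e
    · refine congrArg Sum.inl ?_
      change F.j v * D.wl * (F.j v)⁻¹ = F.j v' * D.wl * (F.j v')⁻¹ at e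
      by_contra hne
      refine hwj (v' - v) (sub_ne_zero.2 (Ne.symm hne)) (mul_inv_eq_iff_eq_mul.1 ?_).symm
      rw [sub_eq_add_neg, add_comm, F.j_add, F.j_neg, show (F.j v)⁻¹ * F.j v' * D.wl * ((F.j v)⁻¹ * F.j v')⁻¹ =
        (F.j v)⁻¹ * (F.j v' * D.wl * (F.j v')⁻¹) * F.j v by group, ← e]
      group
    · exact absurd e (hnot v q')
    · exact absurd e.symm (hnot v' q)
    · exact congrArg Sum.inr (hinj q q' (F.φ_inj e))
  have hfcls : ∀ p, F.Cls 24 (f p) := by
    rintro (v | q)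
    · exact F.cls_conj hc _
    · obtain ⟨n, hn⟩ := hconj q
      exact ⟨F.φ n, F.φ_conj_eq hn⟩
  choose h hh using hfcls
  set C := Subgroup.centralizer ({F.φ rt3} : Set G) with hC
  have hidx : 36 ≤ C.index := by
    rw [Subgroup.index_eq_card]
    refine le_trans (le_of_eq ?_) (Nat.card_le_card_of_injective (fun p => (h p : G ⧸ C)) fun p q e => hfinj ?_)
    · simp [Nat.card_eq_fintype_card]
    · rw [← hh p, ← hh q]
      have hm := Subgroup.mem_centralizer_singleton_iff.1 (QuotientGroup.eq.1 e)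
      calc h p * F.φ (rot 24) * (h p)⁻¹ = h p * (F.φ (rot 24) * ((h p)⁻¹ * h q)) * (h q)⁻¹ := by group
        _ = h p * ((h p)⁻¹ * h q * F.φ (rot 24)) * (h q)⁻¹ := by rw [hm]
        _ = _ := by group
  have hCc : 1440 ≤ Nat.card C := by
    let g : Perm (Fin 6) × Fin 2 → C := fun p => ⟨D.Φ p.1 * F.φ rt3 ^ p.2.val,
      Subgroup.mem_centralizer_singleton_iff.2 ((D.comm _).mul_left ((Commute.refl _).pow_left _)).eq⟩
    refine le_trans (le_of_eq ?_) (Nat.card_le_card_of_injective g ?_)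
    · simp [Nat.card_eq_fintype_card, Fintype.card_perm, Nat.factorial]
    · rintro ⟨y, i⟩ ⟨y', i'⟩ e
      have e' : D.Φ y * F.φ rt3 ^ i.val = D.Φ y' * F.φ rt3 ^ i'.val := congrArg Subtype.val e
      fin_cases i <;> fin_cases i' <;> simp only [pow_zero, pow_one, mul_one] at e'
      · rw [D.inj e']
      · exact absurd (by rw [map_mul, map_inv, e', inv_mul_cancel_left]) (D.sep (y'⁻¹ * y))
      · exact absurd (by rw [map_mul, map_inv, ← e', inv_mul_cancel_left]) (D.sep (y⁻¹ * y'))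
      · rw [D.inj (mul_right_cancel e')]
  have hG : 51840 ≤ Nat.card G := by
    rw [← C.card_mul_index, show (51840 : ℕ) = 1440 * 36 from rfl]
    exact Nat.mul_le_mul hCc hidx
  haveI : Finite CoxeterMatrix.E₆.Group := Nat.finite_of_card_ne_zero (by rw [hE]; norm_num)
  exact ⟨MulEquiv.ofBijective ρ (hsurj.bijective_of_nat_card_le (hE ▸ hG))⟩

end Frame3

end CfsgPSp43Real
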